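import Mathlib

/-!
Binary linear groups: a group `H` of automorphisms of a finite elementary abelian group `V` such
that tuples of vectors with pairwise related entries are related (this is the condition that the
affine group `V ⋊ H` is binary on `V`).  Basic lemmas about the maximal fixed point subgroups.
-/

set_option autoImplicit false

namespace CfsgLib.BinAffine

variable {V H : Type*} [AddCommGroup V] [Group H] [DistribMulAction H V]

/-- The fixed vectors of `h`. -/
def fixd (V : Type*) [AddCommGroup V] [DistribMulAction H V] (h : H) : AddSubgroup V where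
  carrier := {v | h • v = v}
  zero_mem' := smul_zero h
  add_mem' := by
    intro a b ha hb
    show h • (a + b) = a + b
    rw [smul_add, ha, hb]
  neg_mem' := by
    intro a ha
    show h • (-a) = -a
    rw [smul_neg, ha]

/-- The map `v ↦ h • v - v`. -/
def delta (V : Type*) [AddCommGroup V] [DistribMulAction H V] (h : H) : V →+ V where
  toFun v := h • v - v
  map_zero' := by simp
  map_add' a b := by rw [smul_add]; abel

/-- The commutator subgroup `[V, h]`. -/
def move (V : Type*) [AddCommGroup V] [DistribMulAction H V] (h : H) : AddSubgroup V :=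
  (delta V h).range

theorem mem_fixd {h : H} {v : V} : v ∈ fixd V h ↔ h • v = v := Iff.rfl

theorem delta_apply (h : H) (v : V) : delta V h v = h • v - v := rfl

theorem mem_move {h : H} {d : V} : d ∈ move V h ↔ ∃ u, h • u = u + d := by
  constructor
  · rintro ⟨u, rfl⟩
    exact ⟨u, by rw [delta_apply]; abel⟩
  · rintro ⟨u, hu⟩
    exact ⟨u, by rw [delta_apply, hu]; abel⟩

theorem smul_sub_mem_move (h : H) (v : V) : h • v - v ∈ move V h := ⟨v, rfl⟩

theorem ker_delta (h : H) : (delta V h).ker = fixd V h := by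
  ext v
  rw [AddMonoidHom.mem_ker, delta_apply, sub_eq_zero, mem_fixd]

theorem card_fixd_mul_card_move (h : H) :
    Nat.card (fixd V h) * Nat.card (move V h) = Nat.card V := by
  rw [← ker_delta, mul_comm, AddSubgroup.card_eq_card_quotient_mul_card_addSubgroup (delta V h).ker]
  congr 1
  exact (Nat.card_congr (QuotientAddGroup.quotientKerEquivRange (delta V h)).toEquiv).symm

theorem fixd_one : fixd V (1 : H) = ⊤ := by
  ext v; simp [mem_fixd]

theorem inv_mem_fixd {h : H} {v : V} (hv : v ∈ fixd V h) : v ∈ fixd V h⁻¹ := by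
  rw [mem_fixd] at hv ⊢
  rw [inv_smul_eq_iff, hv]

theorem fixd_inf_le_mul (a b : H) : fixd V a ⊓ fixd V b ≤ fixd V (a * b) := by
  intro v hv
  rw [mem_fixd, mul_smul, hv.2, hv.1]

theorem fixd_le_pow (a : H) (n : ℕ) : fixd V a ≤ fixd V (a ^ n) := by
  intro v hv
  induction n with
  | zero => simp [mem_fixd]
  | succ n ih => rw [mem_fixd, pow_succ, mul_smul, hv, ih]

/-- The pointwise stabiliser of a set of vectors. -/
def fixer (H : Type*) [Group H] [DistribMulAction H V] (S : Set V) : Subgroup H where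
  carrier := {h | ∀ v ∈ S, h • v = v}
  one_mem' := fun v _ => one_smul H v
  mul_mem' := by
    intro a b ha hb v hv
    rw [mul_smul, hb v hv, ha v hv]
  inv_mem' := by
    intro a ha v hv
    rw [inv_smul_eq_iff, ha v hv]

theorem mem_fixer {S : Set V} {h : H} : h ∈ fixer H S ↔ ∀ v ∈ S, h • v = v := Iff.rfl

/-- The binary property. -/
def IsBinary (H V : Type*) [AddCommGroup V] [Group H] [DistribMulAction H V] : Prop :=
  ∀ (U : Set V) (f : V → V), (∀ u ∈ U, ∃ h : H, h • u = f u) →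
    (∀ u ∈ U, ∀ v ∈ U, ∃ h : H, h • (u - v) = f u - f v) → ∃ h : H, ∀ u ∈ U, h • u = f u

/-- Irreducibility. -/
def IsIrred (H V : Type*) [AddCommGroup V] [Group H] [DistribMulAction H V] : Prop :=
  ∀ M : AddSubgroup V, (∀ (h : H), ∀ v ∈ M, h • v ∈ M) → M = ⊥ ∨ M = ⊤

/-- A nontrivial element with maximal fixed point subgroup. -/
def IsMax (V : Type*) [AddCommGroup V] [DistribMulAction H V] (k : H) : Prop :=
  k ≠ 1 ∧ ∀ h : H, h ≠ 1 → fixd V k ≤ fixd V h → fixd V h ≤ fixd V k

theorem fixd_ne_top [FaithfulSMul H V] {h : H} (h1 : h ≠ 1) : fixd V h ≠ ⊤ := by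
  intro e
  apply h1
  refine FaithfulSMul.eq_of_smul_eq_smul (α := V) fun v => ?_
  have : v ∈ fixd V h := e ▸ AddSubgroup.mem_top v
  rw [one_smul]
  exact this

theorem eq_one_of_fixd [FaithfulSMul H V] {h : H} (e : ∀ v : V, h • v = v) : h = 1 := by
  by_contra h1
  exact fixd_ne_top (V := V) h1 (eq_top_iff.2 fun v _ => e v)

theorem move_ne_bot [FaithfulSMul H V] {h : H} (h1 : h ≠ 1) : move V h ≠ ⊥ := by
  intro e
  apply h1
  refine eq_one_of_fixd (V := V) fun v => ?_
  have := smul_sub_mem_move h v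
  rw [e, AddSubgroup.mem_bot, sub_eq_zero] at this
  exact this

theorem exists_isMax [Finite V] {h : H} (h1 : h ≠ 1) :
    ∃ k : H, IsMax V k ∧ fixd V h ≤ fixd V k := by
  obtain ⟨C, hC, hmax⟩ := (Set.toFinite {C : AddSubgroup V | ∃ k : H, k ≠ 1 ∧ fixd V k = C}).exists_le_maximal
    (a := fixd V h) ⟨h, h1, rfl⟩
  obtain ⟨k, hk1, rfl⟩ := hmax.1
  exact ⟨k, ⟨hk1, fun g hg hle => hmax.2 ⟨g, hg, rfl⟩ hle⟩, hC⟩

theorem IsMax.of_le {k g : H} (hk : IsMax V k) (hg : g ≠ 1) (hle : fixd V k ≤ fixd V g) :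
    IsMax V g ∧ fixd V g = fixd V k := by
  have e : fixd V g = fixd V k := le_antisymm (hk.2 g hg hle) hle
  refine ⟨⟨hg, fun h hh hle' => ?_⟩, e⟩
  rw [e] at hle' ⊢
  exact hk.2 h hh hle'

/-- For every `d` some single element translates by `d` every vector that can be so translated. -/
theorem exists_shift (hb : IsBinary H V) (d : V) :
    ∃ g : H, (∀ u : V, (∃ h : H, h • u = u + d) → g • u = u + d) ∧
      (∀ h : H, d ∈ move V h → fixd V h ≤ fixd V g) ∧
      ((∃ h : H, d ∈ move V h) → g • d = -d) := by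
  obtain ⟨g, hg⟩ := hb {u | ∃ h : H, h • u = u + d} (fun u => u + d) (fun u hu => hu)
    (fun u _ v _ => ⟨1, by rw [one_smul]; abel⟩)
  refine ⟨g, hg, fun h hd c hc => ?_, fun hh => ?_⟩
  · obtain ⟨u, hu⟩ := mem_move.1 hd
    have e1 := hg u ⟨h, hu⟩
    have e2 := hg (u + c) ⟨h, by rw [smul_add, hu, hc]; abel⟩
    rw [smul_add, e1] at e2
    rw [mem_fixd]
    have : u + d + g • c = u + d + c := by rw [e2]; abel
    exact add_left_cancel this
  · obtain ⟨h, hd⟩ := hh
    obtain ⟨u, hu⟩ := mem_move.1 hd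
    have e1 := hg u ⟨h, hu⟩
    have e2 := hg (-(u + d)) ⟨h⁻¹, by rw [smul_neg, inv_smul_eq_iff.2 hu.symm]; abel⟩
    rw [smul_neg, smul_add, e1] at e2
    have : u + d + g • d = u + d + (-d) := by
      have e3 := congrArg (fun x => -x) e2
      simp only [neg_neg] at e3
      rw [e3]; abel
    exact add_left_cancel this

section
variable [FaithfulSMul H V] [Finite V]

theorem IsMax.meet (hb : IsBinary H V) {k : H} (hk : IsMax V k) {h : H} {d : V} (hd : d ≠ 0)
    (hdk : d ∈ move V k) (hdh : d ∈ move V h) :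
    fixd V h ≤ fixd V k ∧ (∀ u : V, h • u = u + d → k • u = u + d) := by
  obtain ⟨g, hg, hle, -⟩ := exists_shift hb d
  obtain ⟨u₀, hu₀⟩ := mem_move.1 hdk
  have hgu := hg u₀ ⟨k, hu₀⟩
  have g1 : g ≠ 1 := by
    rintro rfl
    rw [one_smul] at hgu
    exact hd (left_eq_add.1 hgu)
  obtain ⟨hgm, hgC⟩ := hk.of_le g1 (hle k hdk)
  have gk : k⁻¹ * g = 1 := by
    by_contra hne
    have h1 : fixd V k ≤ fixd V (k⁻¹ * g) := fun c hc =>
      fixd_inf_le_mul k⁻¹ g ⟨inv_mem_fixd hc, hgC.symm ▸ hc⟩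
    have hu : u₀ ∈ fixd V (k⁻¹ * g) := by
      rw [mem_fixd, mul_smul, hgu, ← hu₀, inv_smul_smul]
    have := hk.2 _ hne h1 hu
    rw [mem_fixd, hu₀] at this
    exact hd (add_eq_left.1 this)
  have : g = k := (inv_mul_eq_one.1 gk).symm
  subst this
  exact ⟨hle h hdh, fun u hu => hg u ⟨h, hu⟩⟩

theorem IsMax.unique (hb : IsBinary H V) {k k' : H} (hk : IsMax V k) (hk' : IsMax V k') {d : V}
    (hd : d ≠ 0) (h1 : d ∈ move V k) (h2 : d ∈ move V k') : k = k' := by
  obtain ⟨a1, b1⟩ := hk.meet hb hd h1 h2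
  obtain ⟨a2, -⟩ := hk'.meet hb hd h2 h1
  have hC : fixd V k = fixd V k' := le_antisymm a2 a1
  obtain ⟨u, hu⟩ := mem_move.1 h2
  have hku := b1 u hu
  by_contra hne
  have g1 : k'⁻¹ * k ≠ 1 := fun e => hne (inv_mul_eq_one.1 e).symm
  have hle : fixd V k' ≤ fixd V (k'⁻¹ * k) := fun c hc =>
    fixd_inf_le_mul k'⁻¹ k ⟨inv_mem_fixd hc, hC ▸ hc⟩
  have hu' : u ∈ fixd V (k'⁻¹ * k) := by
    rw [mem_fixd, mul_smul, hku, ← hu, inv_smul_smul]
  have := hk'.2 _ g1 hle hu'
  rw [mem_fixd, hu] at this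
  exact hd (add_eq_left.1 this)

theorem IsMax.move_ne_bot {k : H} (hk : IsMax V k) : ∃ d, d ≠ 0 ∧ d ∈ move V k := by
  obtain ⟨⟨d, hd⟩, hne⟩ := (AddSubgroup.ne_bot_iff_exists_ne_zero).1 (BinAffine.move_ne_bot (V := V) hk.1)
  exact ⟨d, fun e => hne (Subtype.ext e), hd⟩

theorem IsMax.eq_of_move_le (hb : IsBinary H V) {k k' : H} (hk : IsMax V k) (hk' : IsMax V k')
    (hle : move V k' ≤ move V k) : k' = k := by
  obtain ⟨d, hd, hdk⟩ := hk'.move_ne_bot
  exact hk'.unique hb hk hd hdk (hle hdk)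

theorem IsMax.disjoint (hb : IsBinary H V) {k k' : H} (hk : IsMax V k) (hk' : IsMax V k')
    (hne : k ≠ k') {d : V} (h1 : d ∈ move V k) (h2 : d ∈ move V k') : d = 0 := by
  by_contra hd
  exact hne (hk.unique hb hk' hd h1 h2)

theorem IsMax.mul_self (hb : IsBinary H V) {k : H} (hk : IsMax V k) : k * k = 1 := by
  by_contra hne
  obtain ⟨hm, -⟩ := hk.of_le hne (fun c hc => fixd_inf_le_mul k k ⟨hc, hc⟩)
  have hle : move V (k * k) ≤ move V k := by
    intro d hd
    obtain ⟨u, hu⟩ := mem_move.1 hd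
    have e : d = (k • (k • u) - k • u) + (k • u - u) := by
      rw [← mul_smul, hu]; abel
    rw [e]
    exact add_mem (smul_sub_mem_move _ _) (smul_sub_mem_move _ _)
  have := hk.eq_of_move_le hb hm hle
  exact hk.1 (mul_eq_left.1 this)

theorem IsMax.inv (hb : IsBinary H V) {k : H} (hk : IsMax V k) : k⁻¹ = k :=
  inv_eq_of_mul_eq_one_left (hk.mul_self hb)

theorem IsMax.smul_smul_self (hb : IsBinary H V) {k : H} (hk : IsMax V k) (v : V) :
    k • k • v = v := by
  rw [← mul_smul, hk.mul_self hb, one_smul]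

theorem IsMax.smul_move (hb : IsBinary H V) {k : H} (hk : IsMax V k) {d : V} (hd : d ∈ move V k) :
    k • d = -d := by
  obtain ⟨u, hu⟩ := mem_move.1 hd
  have := hk.smul_smul_self hb u
  rw [hu, smul_add, hu] at this
  have e : k • d = -d := by
    rw [eq_neg_iff_add_eq_zero]
    have h2 : (u + d + k • d) - u = u - u := by rw [this]
    rw [sub_self] at h2
    rw [← h2]; abel
  exact e

omit [Finite V] [FaithfulSMul H V] in
theorem fixd_conj (h k : H) (v : V) : v ∈ fixd V (h * k * h⁻¹) ↔ h⁻¹ • v ∈ fixd V k := by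
  rw [mem_fixd, mem_fixd, mul_smul, mul_smul, smul_eq_iff_eq_inv_smul]

omit [Finite V] [FaithfulSMul H V] in
theorem move_conj (h k : H) (d : V) : d ∈ move V (h * k * h⁻¹) ↔ h⁻¹ • d ∈ move V k := by
  constructor
  · intro hd
    obtain ⟨u, hu⟩ := mem_move.1 hd
    refine mem_move.2 ⟨h⁻¹ • u, ?_⟩
    rw [← smul_add, ← hu, mul_smul, mul_smul, inv_smul_smul]
  · intro hd
    obtain ⟨u, hu⟩ := mem_move.1 hd
    refine mem_move.2 ⟨h • u, ?_⟩
    rw [mul_smul, mul_smul, inv_smul_smul, hu, smul_add, smul_inv_smul]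

omit [Finite V] in
theorem IsMax.conj {k : H} (hk : IsMax V k) (h : H) : IsMax V (h * k * h⁻¹) := by
  refine ⟨fun e => hk.1 (conj_eq_one_iff.1 e), fun g hg hle v hv => ?_⟩
  have h2 : fixd V k ≤ fixd V (h⁻¹ * g * h⁻¹⁻¹) := by
    intro c hc
    rw [fixd_conj, inv_inv]
    refine hle ?_
    rwa [fixd_conj, inv_smul_smul]
  have g1 : h⁻¹ * g * h⁻¹⁻¹ ≠ 1 := fun e => hg (conj_eq_one_iff.1 e)
  have := hk.2 _ g1 h2
  rw [fixd_conj]
  refine this ?_
  rwa [fixd_conj, inv_inv, smul_inv_smul]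

/-- An element mapping a vector of `[V, k]` into `[V, k]` centralises `k`. -/
theorem IsMax.commute_of_smul_mem (hb : IsBinary H V) {k : H} (hk : IsMax V k) {h : H} {e : V}
    (he0 : e ≠ 0) (he : e ∈ move V k) (hhe : h • e ∈ move V k) : Commute h k := by
  have h2 : h • e ∈ move V (h * k * h⁻¹) := by
    rw [move_conj, inv_smul_smul]; exact he
  have h3 : h • e ≠ 0 := fun e' => he0 (by simpa using congrArg (fun x => h⁻¹ • x) e')
  have := (hk.conj h).unique hb hk h3 h2 hhe
  exact mul_inv_eq_iff_eq_mul.1 this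

omit [Finite V] [FaithfulSMul H V] in
theorem smul_move_of_commute {h k : H} (hc : Commute h k) {d : V} (hd : d ∈ move V k) :
    h • d ∈ move V k := by
  obtain ⟨u, hu⟩ := mem_move.1 hd
  refine mem_move.2 ⟨h • u, ?_⟩
  rw [← mul_smul, ← hc.eq, mul_smul, hu, smul_add]

/-- An element centralising `k` acts on `[V, k]` as `1` or as `k`. -/
theorem IsMax.smul_eq_or (hb : IsBinary H V) {k : H} (hk : IsMax V k) {h : H} (hc : Commute h k)
    {e : V} (he : e ∈ move V k) : h • e = e ∨ h • e = -e := by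
  by_cases h0 : h • e - e = 0
  · exact .inl (sub_eq_zero.1 h0)
  · right
    have hd : h • e - e ∈ move V k := sub_mem (smul_move_of_commute hc he) he
    have := (hk.meet hb h0 hd (smul_sub_mem_move h e)).2 e (by abel)
    rw [← hk.smul_move hb he, this]; abel

/-- An element centralising `k` and fixing a nonzero vector of `[V, k]` fixes all of it. -/
theorem IsMax.move_le_fixd (hb : IsBinary H V)
    (hV : ∀ a b : V, a ≠ 0 → a + a = 0 → b + b = 0) {k : H} (hk : IsMax V k) {h : H} {e : V}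
    (he0 : e ≠ 0) (he : e ∈ move V k) (hhe : h • e = e) :
    Commute h k ∧ move V k ≤ fixd V h := by
  have hc : Commute h k := hk.commute_of_smul_mem hb he0 he (hhe.symm ▸ he)
  refine ⟨hc, fun x hx => ?_⟩
  rw [mem_fixd]
  rcases hk.smul_eq_or hb hc hx with hx1 | hx1
  · exact hx1
  rcases hk.smul_eq_or hb hc (add_mem he hx) with h3 | h3
  · rw [smul_add, hhe] at h3
    exact add_left_cancel h3
  · rw [smul_add, hhe, hx1] at h3
    have h4 : e + e = 0 := by
      have h5 : (e + -x) - (-(e + x)) = 0 := sub_eq_zero.2 h3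
      rw [← h5]; abel
    rw [hx1, neg_eq_iff_add_eq_zero]
    exact hV e x he0 h4

end

end CfsgLib.BinAffine
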