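import Cfsg.Agent.BinAffine.Rot

/-!
The plane configuration is the anisotropic orthogonal plane over a field.
-/

set_option autoImplicit false

namespace CfsgLib.BinAffine

theorem exists_field {V H : Type} [AddCommGroup V] [Group H] [DistribMulAction H V] [Finite V]
    [Finite H] [FaithfulSMul H V] (hb : IsBinary H V) (hi : IsIrred H V) {m : ℕ}
    (P : IsPlane V H m) :
    ∃ (F E : Type) (_ : Field F) (_ : Fintype F) (_ : Field E) (_ : Fintype E) (_ : Algebra F E)
      (e : V ≃+ E), Module.finrank F E = 2 ∧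
        ∀ σ : V → V, (∃ h : H, ∀ v, σ v = h • v) ↔
          ∃ (a : E) (φ : E ≃ₐ[F] E), Algebra.norm F a = 1 ∧ ∀ v, e (σ v) = a * φ (e v) := by
  classical
  obtain ⟨k, hk⟩ := P.exists_max hb
  let η : H →* AddMonoid.End V := DistribMulAction.toAddMonoidEnd H V
  have η_apply : ∀ (h : H) (v : V), η h v = h • v := fun _ _ => rfl
  let s : Set (AddMonoid.End V) := η '' (rot hb P : Set H)
  let A : Subring (AddMonoid.End V) := Subring.closure s
  haveI : Finite (AddMonoid.End V) := Finite.of_injective (fun f => (f : V → V)) DFunLike.coe_injective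
  letI : CommRing A := Subring.closureCommRingOfComm (s := s) (by
    rintro _ ⟨x, hx, rfl⟩ _ ⟨y, hy, rfl⟩
    rw [← map_mul, ← map_mul, rot_comm hb P hx hy])
  have hmem : ∀ x ∈ rot hb P, η x ∈ A := fun x hx => Subring.subset_closure ⟨x, hx, rfl⟩
  have hinj : ∀ a : A, a ≠ 0 → Function.Injective (a.1 : V → V) := by
    intro a ha
    rcases rot_irred hb hi P (M := AddMonoidHom.ker (a.1 : V →+ V)) (fun x hx v hv => by
      have hv' : a.1 v = 0 := hv
      have e : a * ⟨η x, hmem x hx⟩ = ⟨η x, hmem x hx⟩ * a := mul_comm _ _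
      have e2 : a.1 (x • v) = x • a.1 v := DFunLike.congr_fun (congrArg Subtype.val e) v
      show a.1 (x • v) = 0
      rw [e2, hv', smul_zero]) with h | h
    · exact (AddMonoidHom.ker_eq_bot_iff _).1 h
    · exfalso
      apply ha
      refine Subtype.ext (DFunLike.ext _ _ fun v => ?_)
      have : v ∈ AddMonoidHom.ker (a.1 : V →+ V) := h ▸ AddSubgroup.mem_top v
      exact this
  -- a vector fixed by `k`
  obtain ⟨e0, he0, hke0⟩ : ∃ e0 : V, e0 ≠ 0 ∧ k • e0 = e0 := by
    by_contra hcon
    have hc := P.card_fixd hb hk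
    have : fixd V k = ⊥ := eq_bot_iff.2 fun v hv => by
      by_contra hv0
      exact hcon ⟨v, hv0, hv⟩
    rw [this, AddSubgroup.card_bot] at hc
    exact absurd hc.symm (Nat.ne_of_gt P.one_lt)
  let ι0 : A →+ V :=
    { toFun := fun a => a.1 e0
      map_zero' := rfl
      map_add' := fun a b => rfl }
  have hι : Function.Bijective ι0 := by
    constructor
    · rw [injective_iff_map_eq_zero]
      intro a ha
      by_contra h0
      exact he0 (hinj a h0 (ha.trans (map_zero a.1).symm))
    · rw [← AddMonoidHom.range_eq_top]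
      rcases rot_irred hb hi P (M := ι0.range) (fun x hx v hv => by
        obtain ⟨a, rfl⟩ := hv
        exact ⟨⟨η x, hmem x hx⟩ * a, rfl⟩) with h | h
      · exfalso
        have : ι0 1 ∈ ι0.range := ⟨1, rfl⟩
        rw [h, AddSubgroup.mem_bot] at this
        exact he0 this
      · exact h
  let ι : A ≃+ V := AddEquiv.ofBijective ι0 hι
  have ι_apply : ∀ a : A, ι a = a.1 e0 := fun _ => rfl
  haveI : Nontrivial A := ⟨⟨0, 1, fun h => he0 (by
    have := congrArg (fun a : A => a.1 e0) h
    exact this.symm)⟩⟩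
  haveI : IsDomain A := by
    haveI : NoZeroDivisors A := ⟨fun {a b} hab => by
      by_contra hcon
      rw [not_or] at hcon
      exact hcon.2 (Subtype.ext (DFunLike.ext _ _ fun v => hinj a hcon.1 (by
        have := DFunLike.congr_fun (congrArg Subtype.val hab) v
        exact this.trans (map_zero a.1).symm)))⟩
    exact NoZeroDivisors.to_isDomain A
  haveI : Fintype A := Fintype.ofFinite A
  letI : Field A := Fintype.fieldOfDomain A
  -- conjugation by `k`
  have hkk : η k * η k = 1 := by rw [← map_mul, hk.mul_self hb, map_one]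
  have hconj : ∀ a : AddMonoid.End V, a ∈ A → η k * a * η k ∈ A := by
    intro a ha
    induction ha using Subring.closure_induction with
    | mem x hx =>
      obtain ⟨y, hy, rfl⟩ := hx
      rw [← map_mul, ← map_mul, rot_conj hb P hk hy]
      exact hmem _ (inv_mem hy)
    | zero => rw [mul_zero, zero_mul]; exact A.zero_mem
    | one => rw [mul_one, hkk]; exact A.one_mem
    | add x y _ _ hx hy => rw [mul_add, add_mul]; exact A.add_mem hx hy
    | neg x _ hx => rw [mul_neg, neg_mul]; exact A.neg_mem hx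
    | mul x y _ _ hx hy =>
      have e : η k * (x * y) * η k = (η k * x * η k) * (η k * y * η k) := by
        calc η k * (x * y) * η k = η k * x * (η k * η k) * y * η k := by
              rw [hkk, mul_one, mul_assoc (η k) x y]
          _ = _ := by simp only [mul_assoc]
      rw [e]; exact A.mul_mem hx hy
  let c : A → A := fun a => ⟨η k * a.1 * η k, hconj _ a.2⟩
  have cc : ∀ a, c (c a) = a := fun a => Subtype.ext (by
    show η k * (η k * a.1 * η k) * η k = a.1
    rw [← mul_assoc, ← mul_assoc, hkk, one_mul, mul_assoc, hkk, mul_one])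
  let ψ : A ≃+* A :=
    { toFun := c
      invFun := c
      left_inv := cc
      right_inv := cc
      map_mul' := fun a b => Subtype.ext (by
        show η k * (a.1 * b.1) * η k = η k * a.1 * η k * (η k * b.1 * η k)
        calc η k * (a.1 * b.1) * η k = η k * a.1 * (η k * η k) * b.1 * η k := by
              rw [hkk, mul_one, mul_assoc (η k) a.1 b.1]
          _ = _ := by simp only [mul_assoc])
      map_add' := fun a b => Subtype.ext (by
        show η k * (a.1 + b.1) * η k = η k * a.1 * η k + η k * b.1 * η k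
        rw [mul_add, add_mul]) }
  have ι_ψ : ∀ a, ι (ψ a) = k • ι a := fun a => by
    show k • a.1 (k • e0) = k • a.1 e0
    rw [hke0]
  let F : Subfield A :=
    { carrier := {a | ψ a = a}
      mul_mem' := fun {a b} ha hb' => by
        show ψ (a * b) = a * b
        rw [map_mul, ha, hb']
      one_mem' := map_one ψ
      add_mem' := fun {a b} ha hb' => by
        show ψ (a + b) = a + b
        rw [map_add, ha, hb']
      zero_mem' := map_zero ψ
      neg_mem' := fun {a} ha => by
        show ψ (-a) = -a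
        rw [map_neg, ha]
      inv_mem' := fun a ha => by
        show ψ a⁻¹ = a⁻¹
        rw [map_inv₀, ha] }
  have hFcard : Nat.card F = m := by
    rw [← P.card_fixd hb hk]
    refine Nat.card_congr (ι.toEquiv.subtypeEquiv fun a => ?_)
    show ψ a = a ↔ k • ι a = ι a
    rw [← ι_ψ, ι.injective.eq_iff]
  have hAcard : Nat.card A = m * m := by rw [Nat.card_congr ι.toEquiv, P.cardV]
  haveI : Fintype F := Fintype.ofFinite F
  have hfin : Module.finrank F A = 2 := by
    have h := Module.natCard_eq_pow_finrank (K := F) (V := A)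
    rw [hAcard, hFcard, ← sq] at h
    exact (Nat.pow_right_injective P.one_lt h).symm
  have hψ : ∀ a : A, ψ a = a ^ m := by
    let Ψ : A ≃ₐ[F] A := AlgEquiv.ofRingEquiv (f := ψ) fun x => x.2
    let Φ : A ≃ₐ[F] A := FiniteField.frobeniusAlgEquivOfAlgebraic F A
    have hgal : Nat.card (A ≃ₐ[F] A) = 2 := by rw [IsGalois.card_aut_eq_finrank, hfin]
    have hΦ : ∀ a : A, Φ a = a ^ m := fun a => by
      show a ^ Fintype.card F = a ^ m
      rw [← Nat.card_eq_fintype_card, hFcard]
    have hlt : ∀ χ : A ≃ₐ[F] A, (∀ a, χ a = a) → χ = 1 := fun χ h => AlgEquiv.ext h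
    have hroots : ∀ n : ℕ, 1 < n → n < m * m → ∃ a : A, a ^ n ≠ a := by
      intro n hn hnm
      by_contra hcon
      simp only [not_exists, not_not] at hcon
      have hp : (Polynomial.X ^ n - Polynomial.X : Polynomial A) ≠ 0 :=
        FiniteField.X_pow_card_sub_X_ne_zero A hn
      have := Polynomial.card_le_degree_of_subset_roots (p := (Polynomial.X ^ n - Polynomial.X : Polynomial A))
        (Z := (Finset.univ : Finset A)) (fun x _ => by
          simp [Polynomial.mem_roots', hp, hcon x])
      rw [FiniteField.X_pow_card_sub_X_natDegree_eq A hn, Finset.card_univ, ← Nat.card_eq_fintype_card,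
        hAcard] at this
      omega
    have hΦ1 : Φ ≠ 1 := by
      intro e
      obtain ⟨a, ha⟩ := hroots m P.one_lt (lt_mul_self P.one_lt)
      exact ha (by rw [← hΦ, e]; rfl)
    have hΨ1 : Ψ ≠ 1 := by
      intro e
      have hall : ∀ a : A, a ∈ F := fun a => DFunLike.congr_fun e a
      have : Nat.card A ≤ Nat.card F :=
        Nat.card_le_card_of_injective (fun a => (⟨a, hall a⟩ : F)) fun a b h => congrArg Subtype.val h
      rw [hAcard, hFcard] at this
      exact absurd (lt_mul_self P.one_lt) (not_lt.2 this)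
    have : Ψ = Φ := by
      by_contra hne
      have hsub : ({1, Ψ, Φ} : Finset (A ≃ₐ[F] A)).card ≤ Fintype.card (A ≃ₐ[F] A) :=
        Finset.card_le_univ _
      rw [← Nat.card_eq_fintype_card, hgal] at hsub
      have h3 : ({1, Ψ, Φ} : Finset (A ≃ₐ[F] A)).card = 3 :=
        Finset.card_eq_three.2 ⟨1, Ψ, Φ, hΨ1.symm, hΦ1.symm, hne, rfl⟩
      omega
    intro a
    rw [← hΦ, ← this]
    rfl
  have hnorm : ∀ a : A, Algebra.norm F a = 1 ↔ a ^ (m + 1) = 1 := by
    intro a
    rw [← (algebraMap F A).injective.eq_iff, FiniteField.algebraMap_norm_eq_pow_sum, hfin, hFcard,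
      map_one, Finset.sum_range_succ, Finset.sum_range_one, pow_zero, pow_one, add_comm 1 m]
  have hrot : ∀ x : rot hb P, (⟨η x, hmem x x.2⟩ : A) ^ (m + 1) = 1 := by
    intro x
    have hx : (x : H) ^ (m + 1) = 1 := by
      have := pow_card_eq_one' (x := x)
      rw [card_rot hb P] at this
      exact congrArg Subtype.val this
    refine Subtype.ext ?_
    show (η x) ^ (m + 1) = 1
    rw [← map_pow, hx, map_one]
  have hsurj : ∀ a : A, Algebra.norm F a = 1 → ∃ x : rot hb P, η x = a.1 := by
    intro a ha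
    let g : rot hb P → {a : A // a ^ (m + 1) = 1} := fun x => ⟨⟨η x, hmem x x.2⟩, hrot x⟩
    have hg : Function.Injective g := fun x y e => Subtype.ext (FaithfulSMul.eq_of_smul_eq_smul
      (α := V) fun v => by
        have e1 : η (x : H) = η (y : H) := congrArg (fun z : {a : A // a ^ (m + 1) = 1} => z.1.1) e
        exact DFunLike.congr_fun e1 v)
    have hle : Nat.card {a : A // a ^ (m + 1) = 1} ≤ m + 1 := by
      have h1 : ∀ a : A, a ^ (m + 1) = 1 → a ∈ Polynomial.nthRootsFinset (m + 1) (1 : A) :=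
        fun a h => (Polynomial.mem_nthRootsFinset (Nat.succ_pos m) 1).2 h
      calc Nat.card {a : A // a ^ (m + 1) = 1}
          ≤ Nat.card (Polynomial.nthRootsFinset (m + 1) (1 : A)) :=
            Nat.card_le_card_of_injective (fun a => ⟨a.1, h1 a.1 a.2⟩) fun a b e =>
              Subtype.ext (Subtype.mk.inj e)
        _ ≤ m + 1 := by
          rw [Nat.card_eq_fintype_card, Fintype.card_coe]
          rw [Polynomial.nthRootsFinset_def]
          exact (Multiset.toFinset_card_le _).trans (Polynomial.card_nthRoots _ _)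
    have hbij : Function.Bijective g := (Nat.bijective_iff_injective_and_card g).2
      ⟨hg, le_antisymm (Nat.card_le_card_of_injective g hg) (hle.trans (card_rot hb P).ge)⟩
    obtain ⟨x, hx⟩ := hbij.2 ⟨a, (hnorm a).1 ha⟩
    exact ⟨x, congrArg (fun z : {a : A // a ^ (m + 1) = 1} => z.1.1) hx⟩
  let Ψ : A ≃ₐ[F] A := AlgEquiv.ofRingEquiv (f := ψ) fun x => x.2
  have hgal' : ∀ φ : A ≃ₐ[F] A, φ = 1 ∨ φ = Ψ := by
    intro φ
    by_contra hcon
    rw [not_or] at hcon
    have hΨ1 : Ψ ≠ 1 := by
      intro e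
      have hall : ∀ a : A, a ∈ F := fun a => DFunLike.congr_fun e a
      have : Nat.card A ≤ Nat.card F :=
        Nat.card_le_card_of_injective (fun a => (⟨a, hall a⟩ : F)) fun a b h => congrArg Subtype.val h
      rw [hAcard, hFcard] at this
      exact absurd (lt_mul_self P.one_lt) (not_lt.2 this)
    have hsub : ({1, Ψ, φ} : Finset (A ≃ₐ[F] A)).card ≤ Fintype.card (A ≃ₐ[F] A) :=
      Finset.card_le_univ _
    rw [← Nat.card_eq_fintype_card, IsGalois.card_aut_eq_finrank, hfin] at hsub
    have h3 : ({1, Ψ, φ} : Finset (A ≃ₐ[F] A)).card = 3 :=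
      Finset.card_eq_three.2 ⟨1, Ψ, φ, hΨ1.symm, Ne.symm hcon.1, Ne.symm hcon.2, rfl⟩
    omega
  refine ⟨F, A, inferInstance, inferInstance, inferInstance, inferInstance, inferInstance, ι.symm,
    hfin, fun σ => ⟨?_, ?_⟩⟩
  · rintro ⟨h, hσ⟩
    by_cases hh : IsMax V h
    · -- `h = x * k`
      have hx : h * k ∈ rot hb P := P.mul_not_max hb hh hk
      refine ⟨⟨η (h * k), hmem _ hx⟩, Ψ, (hnorm _).2 (hrot ⟨_, hx⟩), fun v => ?_⟩
      obtain ⟨b, rfl⟩ := ι.surjective v
      rw [hσ, ι.symm_apply_apply, AddEquiv.symm_apply_eq]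
      show h • ι b = (h * k) • ι (ψ b)
      rw [ι_ψ, mul_smul, hk.smul_smul_self hb]
    · refine ⟨⟨η h, hmem _ hh⟩, 1, (hnorm _).2 (hrot ⟨_, hh⟩), fun v => ?_⟩
      obtain ⟨b, rfl⟩ := ι.surjective v
      rw [hσ, ι.symm_apply_apply, AddEquiv.symm_apply_eq]
      rfl
  · rintro ⟨a, φ, ha, hσ⟩
    obtain ⟨x, hx⟩ := hsurj a ha
    have hval : ∀ b : A, ι (a * b) = (x : H) • ι b := fun b => by
      show a.1 (b.1 e0) = (x : H) • b.1 e0
      rw [← hx]
      rfl
    rcases hgal' φ with rfl | rfl
    · refine ⟨x, fun v => ι.symm.injective ?_⟩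
      obtain ⟨b, rfl⟩ := ι.surjective v
      rw [hσ, ← hval, ι.symm_apply_apply, ι.symm_apply_apply]
      rfl
    · refine ⟨x * k, fun v => ι.symm.injective ?_⟩
      obtain ⟨b, rfl⟩ := ι.surjective v
      rw [hσ, mul_smul, ← ι_ψ, ← hval, ι.symm_apply_apply, ι.symm_apply_apply]
      rfl

end CfsgLib.BinAffine
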