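import Cfsg.Agent.BinAffine.Pairs

/-!
The configuration of a plane spanned by two maximal elements, and the structure of the group in it.
-/

set_option autoImplicit false

namespace CfsgLib.BinAffine

variable {V H : Type*} [AddCommGroup V] [Group H] [DistribMulAction H V]

/-- Every nonzero vector lies in exactly one point, there are `m + 1` points, and some vector has a
stabiliser of order two. -/
structure IsPlane (V H : Type*) [AddCommGroup V] [Group H] [DistribMulAction H V] (m : ℕ) :
    Prop where
  one_lt : 1 < m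
  cardV : Nat.card V = m * m
  card_move : ∀ k : H, IsMax V k → Nat.card (move V k) = m
  covered : ∀ v : V, v ≠ 0 → ∃ k : H, IsMax V k ∧ v ∈ move V k
  inter : ∀ k k' : H, IsMax V k → IsMax V k' → k ≠ k' → fixdPair V k k' = ⊥
  stab : ∃ u : V, u ≠ 0 ∧ ∃ k : H, IsMax V k ∧ k • u = u ∧ ∀ h : H, h • u = u → h = 1 ∨ h = k

variable [Finite V] [Finite H] [FaithfulSMul H V]

theorem IsPlane.card_fixd (hb : IsBinary H V) {m : ℕ} (P : IsPlane V H m) {k : H} (hk : IsMax V k) :
    Nat.card (fixd V k) = m := by
  have := card_fixd_mul_card_move (V := V) k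
  rw [P.card_move k hk, P.cardV] at this
  exact Nat.eq_of_mul_eq_mul_right (by have := P.one_lt; omega) this

theorem IsPlane.card_max (hb : IsBinary H V) {m : ℕ} (P : IsPlane V H m) :
    Nat.card {k : H // IsMax V k} = m + 1 := by
  have key : (Nat.card {k : H // IsMax V k}) * (m - 1) = m * m - 1 := by
    have e : (Σ k : {k : H // IsMax V k}, {v : move V k.1 // (v : V) ≠ 0}) ≃ {v : V // v ≠ 0} := by
      refine Equiv.ofBijective (fun x => ⟨((x.2.1 : move V x.1.1) : V), x.2.2⟩) ⟨?_, ?_⟩
      · rintro ⟨k, v⟩ ⟨k', v'⟩ hxy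
        have e : ((v.1 : move V k.1) : V) = v'.1 := congrArg Subtype.val hxy
        have : k = k' := Subtype.ext (k.2.unique hb k'.2 v.2 v.1.2 (e ▸ v'.1.2))
        subst this
        exact Sigma.ext rfl (heq_of_eq (Subtype.ext (Subtype.ext e)))
      · rintro ⟨v, hv⟩
        obtain ⟨k, hk, hvk⟩ := P.covered v hv
        exact ⟨⟨⟨k, hk⟩, ⟨⟨v, hvk⟩, hv⟩⟩, rfl⟩
    have h1 : ∀ k : {k : H // IsMax V k}, Nat.card {v : move V k.1 // (v : V) ≠ 0} = m - 1 := by
      intro k
      classical
      haveI := Fintype.ofFinite (move V k.1)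
      rw [Nat.card_congr (Equiv.subtypeEquivRight (q := fun v : move V k.1 => v ≠ 0)
        (fun v => by simp)), Nat.card_eq_fintype_card, Fintype.card_subtype_compl,
        Fintype.card_subtype_eq, ← Nat.card_eq_fintype_card, P.card_move k.1 k.2]
    have h2 : Nat.card {v : V // v ≠ 0} = m * m - 1 := by
      classical
      haveI := Fintype.ofFinite V
      rw [Nat.card_eq_fintype_card, Fintype.card_subtype_compl, Fintype.card_subtype_eq,
        ← Nat.card_eq_fintype_card, P.cardV]
    haveI := Fintype.ofFinite {k : H // IsMax V k}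
    rw [← h2, ← Nat.card_congr e, Nat.card_sigma, Finset.sum_congr rfl (fun k _ => h1 k),
      Finset.sum_const, Finset.card_univ, Nat.card_eq_fintype_card, smul_eq_mul]
  have h3 : m * m - 1 = (m + 1) * (m - 1) := by
    have := Nat.sq_sub_sq m 1
    simpa [sq] using this
  rw [h3] at key
  exact Nat.eq_of_mul_eq_mul_right (by have := P.one_lt; omega) key

theorem IsPlane.fixd_mul (hb : IsBinary H V) {m : ℕ} (P : IsPlane V H m) {k k' : H}
    (hk : IsMax V k) (hk' : IsMax V k') (hne : k ≠ k') : fixd V (k * k') = ⊥ := by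
  rw [hk.fixd_mul hb hk' hne, P.inter k k' hk hk' hne]

theorem IsPlane.mul_not_max (hb : IsBinary H V) {m : ℕ} (P : IsPlane V H m) {k k' : H}
    (hk : IsMax V k) (hk' : IsMax V k') : ¬ IsMax V (k * k') := by
  intro h
  by_cases hne : k = k'
  · subst hne
    exact h.1 (hk.mul_self hb)
  · have := P.card_fixd hb h
    rw [P.fixd_mul hb hk hk' hne, AddSubgroup.card_bot] at this
    have := P.one_lt
    omega

/-- The stabiliser of the special vector has order two, so the group is small. -/
theorem IsPlane.card_le (hb : IsBinary H V) {m : ℕ} (P : IsPlane V H m) :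
    Nat.card H ≤ 2 * (m + 1) := by
  obtain ⟨u, hu0, k, hk, hfix, hst⟩ := P.stab
  have hS : Nat.card (MulAction.stabilizer H u) ≤ 2 := by
    classical
    have hsub : (MulAction.stabilizer H u : Set H) ⊆ {1, k} := fun h hh => hst h hh
    have := Set.ncard_le_ncard hsub
    rw [← Nat.card_coe_set_eq] at this
    exact this.trans ((Set.ncard_insert_le _ _).trans (by rw [Set.ncard_singleton]))
  have hO : Nat.card (MulAction.orbit H u) ≤ m + 1 := by
    classical
    -- each other point of the orbit is the image of `u` under a maximal element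
    have hmem : ∀ v : MulAction.orbit H u, ∃ j : {j : H // IsMax V j},
        j.1 • u = (v : V) := by
      rintro ⟨v, h, rfl⟩
      show ∃ j : {j : H // IsMax V j}, j.1 • u = h • u
      by_cases he : h • u - u = 0
      · exact ⟨⟨k, hk⟩, hfix.trans (sub_eq_zero.1 he).symm⟩
      · obtain ⟨j, hj, hjd⟩ := P.covered _ he
        exact ⟨⟨j, hj⟩, by rw [(hj.meet hb he hjd (smul_sub_mem_move h u)).2 u (by abel)]; abel⟩
    choose f hf using hmem
    exact (Nat.card_le_card_of_injective f fun a b e => Subtype.ext (by rw [← hf a, ← hf b, e])).trans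
      (P.card_max hb).le
  calc Nat.card H = Nat.card (MulAction.orbit H u) * Nat.card (MulAction.stabilizer H u) := by
        rw [← Nat.card_prod, Nat.card_congr (MulAction.orbitProdStabilizerEquivGroup H u)]
    _ ≤ (m + 1) * 2 := Nat.mul_le_mul hO hS
    _ = 2 * (m + 1) := mul_comm _ _

end CfsgLib.BinAffine
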