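import Cfsg.Agent.BinAffine.Perp
import Cfsg.Agent.BinAffine.Plane

/-!
Binary linear groups in odd characteristic: points, lines and the component of a point.
-/

set_option autoImplicit false

namespace CfsgLib.BinAffine

variable {V H : Type*} [AddCommGroup V] [Group H] [DistribMulAction H V] [Finite V] [Finite H]
  [FaithfulSMul H V]

omit [Finite H] in
theorem IsMax.perp_iff (W : IsOdd H V) {k : H} (hk : IsMax V k) {d : V} (hd0 : d ≠ 0)
    (hd : d ∈ move V k) (c : V) : Perp H c d ↔ c ∈ fixd V k := by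
  obtain ⟨K, K1, hK, hle⟩ := exists_reflect W hd0
  rw [hK, (hk.of_le K1 (hle k (add_mem hd hd))).2]

omit [Finite H] in
theorem disjoint_odd (W : IsOdd H V) (k k' : H) :
    ∀ v ∈ movePair V k k', v ∈ fixdPair V k k' → v = 0 := by
  intro v hv hT
  obtain ⟨a, ha, b, hb', rfl⟩ := AddSubgroup.mem_sup.1 hv
  exact eq_zero_of_perp_self W
    (perp_add_right W (perp_fixd_move W k hT.1 ha) (perp_fixd_move W k' hT.2 hb'))

omit [Finite H] in
theorem mem_movePair_of_perp (W : IsOdd H V) {k k' : H} (hk : IsMax V k) (hk' : IsMax V k')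
    (hne : k ≠ k') {v : V} (hv : ∀ t ∈ fixdPair V k k', Perp H v t) : v ∈ movePair V k k' := by
  obtain ⟨p, hp, t, ht, rfl⟩ := exists_decomp W.binary hk hk' hne (disjoint_odd W k k') v
  obtain ⟨a, ha, b, hb', rfl⟩ := AddSubgroup.mem_sup.1 hp
  have h1 : Perp H t (a + b + t) := (hv t ht).symm W
  have h2 : Perp H t (a + b) :=
    perp_add_right W (perp_fixd_move W k ht.1 ha) (perp_fixd_move W k' ht.2 hb')
  have h3 := perp_sub_right W h1 h2
  rw [add_sub_cancel_left] at h3
  rw [eq_zero_of_perp_self W h3, add_zero]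
  exact hp

/-- A point orthogonal to everything orthogonal to `x`. -/
theorem exists_point_perp (W : IsOdd H V) {x : V} (hx : x ≠ 0) :
    ∃ j : H, IsMax V j ∧ (∀ c, Perp H c x → c ∈ fixd V j) := by
  obtain ⟨K, K1, hK, -⟩ := exists_reflect W hx
  obtain ⟨j, hj, hle⟩ := exists_isMax (V := V) K1
  exact ⟨j, hj, fun c hc => hle ((hK c).1 hc)⟩

omit [Finite H] in
/-- The point of a vector of `P(a, b)` lies in `P(a, b)`. -/
theorem point_le_movePair (W : IsOdd H V) {a b j : H} (ha : IsMax V a) (hb : IsMax V b)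
    (hne : a ≠ b) (hj : IsMax V j) {x : V} (hx0 : x ≠ 0) (hx : x ∈ movePair V a b)
    (hxj : x ∈ move V j) : move V j ≤ movePair V a b := by
  intro y hy
  refine mem_movePair_of_perp W ha hb hne fun t ht => ?_
  refine (perp_fixd_move W j ?_ hy).symm W
  rw [← hj.perp_iff W hx0 hxj]
  obtain ⟨u, hu, v, hv, rfl⟩ := AddSubgroup.mem_sup.1 hx
  exact perp_add_right W (perp_fixd_move W a ht.1 hu) (perp_fixd_move W b ht.2 hv)

omit [Finite H] in
/-- A point inside `X` splits it. -/
theorem card_inf_fixd (W : IsOdd H V) {j : H} {X : AddSubgroup V} (hjX : move V j ≤ X) :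
    Nat.card (X ⊓ fixd V j : AddSubgroup V) * Nat.card (move V j) = Nat.card X := by
  rw [← Nat.card_prod]
  refine Nat.card_congr (Equiv.ofBijective
    (fun x : (X ⊓ fixd V j : AddSubgroup V) × move V j =>
      (⟨(x.1 : V) + x.2, add_mem x.1.2.1 (hjX x.2.2)⟩ : X)) ⟨?_, ?_⟩)
  · intro x y hxy
    have e : (x.1 : V) + x.2 = y.1 + y.2 := congrArg Subtype.val hxy
    have e2 : (x.1 : V) - y.1 = y.2 - x.2 := by
      rw [sub_eq_sub_iff_add_eq_add, e]; abel
    have m1 : (x.1 : V) - y.1 ∈ fixd V j := (fixd V j).sub_mem x.1.2.2 y.1.2.2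
    have m2 : (x.1 : V) - y.1 ∈ move V j := e2 ▸ (move V j).sub_mem y.2.2 x.2.2
    have h0 := eq_zero_of_perp_self W (perp_fixd_move W j m1 m2)
    have a := sub_eq_zero.1 h0
    rw [e2, sub_eq_zero] at h0
    exact Prod.ext (Subtype.ext a) (Subtype.ext h0.symm)
  · rintro ⟨v, hv⟩
    obtain ⟨c, hc, d, hd, rfl⟩ := exists_fixd_add_move W j v
    have hcX : c ∈ X := by
      have := X.sub_mem hv (hjX hd)
      rwa [add_sub_cancel_right] at this
    exact ⟨(⟨c, hcX, hc⟩, ⟨d, hd⟩), rfl⟩

theorem noncommute_of_le (W : IsOdd H V) {k k' j : H} (hk : IsMax V k) (hk' : IsMax V k')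
    (hnc : ¬ Commute k k') (hj : IsMax V j) (hjP : move V j ≤ movePair V k k') :
    (¬ Commute j k ∨ ¬ Commute j k') ∧ Nat.card (move V j) = Nat.card (move V k) := by
  have h1 : ¬ Commute j k ∨ ¬ Commute j k' := by
    by_contra hcon
    simp only [not_or, not_not] at hcon
    have hjk : j ≠ k := fun e => hnc (e ▸ hcon.2)
    have hjk' : j ≠ k' := fun e => hnc (e ▸ hcon.1).symm
    obtain ⟨d, hd0, hd⟩ := hj.move_ne_bot
    exact hd0 (disjoint_odd W k k' d (hjP hd)
      ⟨hj.move_le_fixd_of_commute W.binary hk hjk hcon.1 hd,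
        hj.move_le_fixd_of_commute W.binary hk' hjk' hcon.2 hd⟩)
  refine ⟨h1, ?_⟩
  rcases h1 with h | h
  · exact hj.card_move_eq W.binary hk h
  · rw [hj.card_move_eq W.binary hk' h, hk.card_move_eq W.binary hk' hnc]

/-- Every vector of the plane of a noncommuting pair lies in a point. -/
theorem exists_point_line (W : IsOdd H V) {k k' : H} (hk : IsMax V k) (hk' : IsMax V k')
    (hnc : ¬ Commute k k') {d : V} (hd0 : d ≠ 0) (hd : d ∈ movePair V k k') :
    ∃ j : H, IsMax V j ∧ d ∈ move V j ∧ (¬ Commute j k ∨ ¬ Commute j k') := by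
  have hne : k ≠ k' := fun e => hnc (e ▸ Commute.refl k)
  obtain ⟨u, hu, hur⟩ := mul_delta_surj W.binary hk hk' hne (disjoint_odd W k k')
    (add_mem hd hd)
  set c := u + d with hc
  have hcd : Perp H c d := ⟨k * k', by
    rw [hc, show u + d - d = u by abel, hur]; abel⟩
  have hcP : c ∈ movePair V k k' := add_mem hu hd
  have hperpT : ∀ p ∈ movePair V k k', ∀ t ∈ fixdPair V k k', Perp H t p := by
    intro p hp t ht
    obtain ⟨a, ha, b, hb', rfl⟩ := AddSubgroup.mem_sup.1 hp
    exact perp_add_right W (perp_fixd_move W k ht.1 ha) (perp_fixd_move W k' ht.2 hb')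
  have hc0 : c ≠ 0 := by
    intro c0
    have hu' : u = -d := eq_neg_of_add_eq_zero_left c0
    rw [hu', mul_smul, smul_neg, smul_neg] at hur
    have e1 : k • k' • d = -d := by
      rw [← neg_neg (k • k' • d), hur]; abel
    have e2 : k' • d = -(k • d) := by
      rw [← hk.smul_smul_self W.binary (k' • d), e1, smul_neg]
    have e3 : k' • (k • d) = -d := by
      have := congrArg (fun x => k' • x) e2
      simp only [hk'.smul_smul_self W.binary, smul_neg] at this
      rw [← neg_neg (k' • k • d), ← this]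
    have hx : d - k • d ∈ fixd V k' := by
      rw [mem_fixd, smul_sub, e2, e3]; abel
    have hxm : d - k • d ∈ move V k := by
      rw [← neg_sub (k • d) d]; exact neg_mem (smul_sub_mem_move k d)
    have hx0 := hk.inter_fixd_eq W.binary (fun h => hnc h.symm) hxm hx
    have hkd : d ∈ fixd V k := (sub_eq_zero.1 hx0).symm
    have hk'd : k' • d = -d := by rw [e2, mem_fixd.1 hkd]
    obtain ⟨v, hv⟩ := exists_half W.odd d
    have hdm : d ∈ move V k' := by
      refine mem_move.2 ⟨-v, ?_⟩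
      have h4 : k' • v + k' • v = -v + -v := by
        rw [← smul_add, hv, hk'd, ← hv]; abel
      have h5 : k' • v = -v := by
        refine sub_eq_zero.1 (W.odd _ ?_)
        rw [show k' • v - -v + (k' • v - -v) = (k' • v + k' • v) - (-v + -v) by abel, h4, sub_self]
      rw [smul_neg, h5, ← hv]; abel
    exact hd0 (hk'.inter_fixd_eq W.binary hnc hdm hkd)
  obtain ⟨j, hj, hjc⟩ := exists_point_perp W hc0
  have hjd : d ∈ fixd V j := hjc d (hcd.symm W)
  have hjP : move V j ≤ movePair V k k' := fun y hy =>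
    mem_movePair_of_perp W hk hk' hne fun t ht =>
      (perp_fixd_move W j (hjc t (hperpT c hcP t ht)) hy).symm W
  obtain ⟨-, hjm⟩ := noncommute_of_le W hk hk' hnc hj hjP
  obtain ⟨i, hi, hid⟩ := exists_point_perp W hd0
  have hiP : move V i ≤ movePair V k k' := fun y hy =>
    mem_movePair_of_perp W hk hk' hne fun t ht =>
      (perp_fixd_move W i (hid t (hperpT d hd t ht)) hy).symm W
  obtain ⟨hinc, him⟩ := noncommute_of_le W hk hk' hnc hi hiP
  refine ⟨i, hi, ?_, hinc⟩
  have hsub : move V i ≤ movePair V k k' ⊓ fixd V j := fun y hy => ⟨hiP hy, by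
    refine mem_fixd_of_perp W j fun e he => ?_
    exact (perp_fixd_move W i (hid e ((perp_fixd_move W j hjd he).symm W)) hy).symm W⟩
  have heq : move V i = movePair V k k' ⊓ fixd V j := by
    refine AddSubgroup.eq_of_le_of_card_ge hsub ?_
    have e := card_inf_fixd W hjP
    rw [hk.card_movePair W.binary hk' hne, ← hk.card_move_eq W.binary hk' hnc, hjm] at e
    exact (Nat.eq_of_mul_eq_mul_right Nat.card_pos e).trans him.symm |>.le
  rw [heq]; exact ⟨hd, hjd⟩

/-- Points at distance at most two in the noncommuting graph. -/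
def Near (V : Type*) {H : Type*} [AddCommGroup V] [Group H] [DistribMulAction H V] (a b : H) :
    Prop := a = b ∨ ¬ Commute a b ∨ ∃ c, IsMax V c ∧ ¬ Commute a c ∧ ¬ Commute c b

omit [Finite V] [Finite H] [FaithfulSMul H V] in
theorem Near.symm {a b : H} (h : Near V a b) : Near V b a := by
  rcases h with h | h | ⟨c, hc, h1, h2⟩
  · exact .inl h.symm
  · exact .inr (.inl fun h' => h h'.symm)
  · exact .inr (.inr ⟨c, hc, fun h' => h2 h'.symm, fun h' => h1 h'.symm⟩)

omit [Finite H] in
theorem eq_or_not_commute (W : IsOdd H V) {Z a : H} (hZ : IsMax V Z) (ha : IsMax V a) {z : V}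
    (hz : z ∈ move V Z) (hza : z ∉ fixd V a) : Z = a ∨ ¬ Commute Z a := by
  by_contra h
  simp only [not_or, not_not] at h
  exact hza (hZ.move_le_fixd_of_commute W.binary ha h.1 h.2 hz)

theorem near_step (W : IsOdd H V) {a b c : H} (ha : IsMax V a) (hb : IsMax V b) (hc : IsMax V c)
    (hab : Near V a b) (hbc : ¬ Commute b c) : Near V a c := by
  by_cases hac : Commute a c
  swap
  · exact .inr (.inl hac)
  by_cases hab' : Commute a b
  swap
  · exact .inr (.inr ⟨b, hb, hab', hbc⟩)
  rcases hab with rfl | h | ⟨g, hg, hag, hgb⟩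
  · exact absurd hac hbc
  · exact absurd hab' h
  by_cases hgc : Commute g c
  swap
  · exact .inr (.inr ⟨g, hg, hag, hgc⟩)
  have hne_ab : a ≠ b := fun e => hbc (e ▸ hac)
  have hne_gc : g ≠ c := fun e => hag (e ▸ hac)
  obtain ⟨g0, g00, hg0⟩ := hg.move_ne_bot
  obtain ⟨f0, f00, hf0⟩ := hb.move_ne_bot
  have hfa : f0 ∈ fixd V a :=
    hb.move_le_fixd_of_commute W.binary ha (Ne.symm hne_ab) hab'.symm hf0
  have hga : g0 ∉ fixd V a := fun h => g00 (hg.inter_fixd_eq W.binary hag hg0 h)
  have hgc' : g0 ∈ fixd V c := hg.move_le_fixd_of_commute W.binary hc hne_gc hgc hg0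
  have hfc : f0 ∉ fixd V c := fun h => f00 (hb.inter_fixd_eq W.binary (fun h' => hbc h'.symm) hf0 h)
  have hza : g0 + f0 ∉ fixd V a := fun h => hga (by
    have := sub_mem h hfa
    rwa [add_sub_cancel_right] at this)
  have hzc : g0 + f0 ∉ fixd V c := fun h => hfc (by
    have := sub_mem h hgc'
    rwa [add_sub_cancel_left] at this)
  obtain ⟨Z, hZ, hzZ, -⟩ := exists_point_line W hg hb hgb (fun h => hza (by rw [h]; exact zero_mem _))
    (add_mem (AddSubgroup.mem_sup_left hg0) (AddSubgroup.mem_sup_right hf0))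
  rcases eq_or_not_commute W hZ ha hzZ hza with h1 | h1
  · rcases eq_or_not_commute W hZ hc hzZ hzc with h2 | h2
    · exact .inl (h1.symm.trans h2)
    · exact absurd (h1 ▸ hac) h2
  · rcases eq_or_not_commute W hZ hc hzZ hzc with h2 | h2
    · exact absurd (h2 ▸ hac.symm) h1
    · exact .inr (.inr ⟨Z, hZ, fun h => h1 h.symm, h2⟩)

theorem near_trans (W : IsOdd H V) {a b c : H} (ha : IsMax V a) (hb : IsMax V b) (hc : IsMax V c)
    (hab : Near V a b) (hbc : Near V b c) : Near V a c := by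
  rcases hbc with rfl | h | ⟨g, hg, h1, h2⟩
  · exact hab
  · exact near_step W ha hb hc hab h
  · exact near_step W ha hg hc (near_step W ha hb hg hab h1) h2

/-- Sums inside a component stay inside it. -/
theorem near_add (W : IsOdd H V) {k₀ a b : H} (hk₀ : IsMax V k₀) (ha : IsMax V a) (hb : IsMax V b)
    (hna : Near V k₀ a) (hnb : Near V k₀ b) {e f : V} (he : e ∈ move V a) (hf : f ∈ move V b)
    (hef : e + f ≠ 0) : ∃ j, IsMax V j ∧ Near V k₀ j ∧ e + f ∈ move V j := by
  have hline : ∀ p q : H, IsMax V p → IsMax V q → ¬ Commute p q → Near V k₀ p → Near V k₀ q →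
      ∀ x : V, x ≠ 0 → x ∈ movePair V p q → ∃ j, IsMax V j ∧ Near V k₀ j ∧ x ∈ move V j := by
    intro p q hp hq hpq hnp hnq x hx0 hx
    obtain ⟨j, hj, hxj, h | h⟩ := exists_point_line W hp hq hpq hx0 hx
    · exact ⟨j, hj, near_step W hk₀ hp hj hnp (fun h' => h h'.symm), hxj⟩
    · exact ⟨j, hj, near_step W hk₀ hq hj hnq (fun h' => h h'.symm), hxj⟩
  by_cases hab : a = b
  · exact ⟨a, ha, hna, add_mem he (hab ▸ hf)⟩
  by_cases hcm : Commute a b
  swap
  · exact hline a b ha hb hcm hna hnb _ hef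
      (add_mem (AddSubgroup.mem_sup_left he) (AddSubgroup.mem_sup_right hf))
  by_cases he0 : e = 0
  · exact ⟨b, hb, hnb, by rw [he0, zero_add]; exact hf⟩
  obtain ⟨g, hg, hag, hgb⟩ : ∃ g, IsMax V g ∧ ¬ Commute a g ∧ ¬ Commute g b := by
    rcases near_trans W ha hk₀ hb hna.symm hnb with h | h | h
    · exact absurd h hab
    · exact absurd hcm h
    · exact h
  have hng := near_step W hk₀ ha hg hna hag
  obtain ⟨g1, g10, hg1⟩ := hg.move_ne_bot
  -- choose the sign of `g1`
  obtain ⟨g0, g00, hg0, hw⟩ : ∃ g0, g0 ≠ 0 ∧ g0 ∈ move V g ∧ e + (g0 + f) ∉ fixd V g := by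
    by_cases h : e + (g1 + f) ∈ fixd V g
    · refine ⟨-g1, neg_ne_zero.2 g10, neg_mem hg1, fun h' => g10 (W.odd g1 ?_)⟩
      have h3 := sub_mem h h'
      rw [show e + (g1 + f) - (e + (-g1 + f)) = g1 + g1 by abel] at h3
      exact eq_zero_of_perp_self W (perp_fixd_move W g h3 (add_mem hg1 hg1))
    · exact ⟨g1, g10, hg1, h⟩
  have hfa : f ∈ fixd V a := hb.move_le_fixd_of_commute W.binary ha (Ne.symm hab) hcm.symm hf
  have hza : g0 + f ∉ fixd V a := fun h => g00 (hg.inter_fixd_eq W.binary hag hg0 (by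
    have := sub_mem h hfa
    rwa [add_sub_cancel_right] at this))
  have hz0 : g0 + f ≠ 0 := fun h => hza (h ▸ zero_mem _)
  have hzP : g0 + f ∈ movePair V g b :=
    add_mem (AddSubgroup.mem_sup_left hg0) (AddSubgroup.mem_sup_right hf)
  obtain ⟨Z, hZ, hnZ, hzZ⟩ := hline g b hg hb hgb hng hnb _ hz0 hzP
  rcases eq_or_not_commute W hZ ha hzZ hza with h1 | h1
  · subst h1
    refine hline g b hg hb hgb hng hnb _ hef (add_mem ?_ (AddSubgroup.mem_sup_right hf))
    exact point_le_movePair W hg hb (fun h => hgb (h ▸ Commute.refl g)) hZ hz0 hzP hzZ he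
  have hwP : e + (g0 + f) ∈ movePair V a Z :=
    add_mem (AddSubgroup.mem_sup_left he) (AddSubgroup.mem_sup_right hzZ)
  obtain ⟨Y, hY, hnY, hwY⟩ :=
    hline a Z ha hZ (fun h => h1 h.symm) hna hnZ _ (fun h => hw (by rw [h]; exact zero_mem _)) hwP
  rcases eq_or_not_commute W hY hg hwY hw with h2 | h2
  · refine ⟨Y, hY, hnY, ?_⟩
    have := sub_mem hwY (h2.symm ▸ hg0)
    rwa [show e + (g0 + f) - g0 = e + f by abel] at this
  · refine hline Y g hY hg h2 hnY hng _ hef ?_
    have := sub_mem (AddSubgroup.mem_sup_left (T := move V g) hwY)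
      (AddSubgroup.mem_sup_right (S := move V Y) hg0)
    rwa [show e + (g0 + f) - g0 = e + f by abel] at this

/-- Conjugate points are near each other. -/
theorem near_conj (W : IsOdd H V) {k : H} (hk : IsMax V k) (h : H) :
    Near V k (h * k * h⁻¹) := by
  set k' := h * k * h⁻¹ with hk'def
  have hk' : IsMax V k' := hk.conj h
  by_cases hne : k = k'
  · exact .inl hne
  by_cases hc : Commute k k'
  swap
  · exact .inr (.inl hc)
  obtain ⟨a, a0, ha⟩ := hk.move_ne_bot
  set b := h • a with hb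
  have hbm : b ∈ move V k' := by rw [hk'def, move_conj, hb, inv_smul_smul]; exact ha
  have b0 : b ≠ 0 := fun e => a0 ((smul_eq_zero_iff_eq h).1 e)
  have hd0 : b - a ≠ 0 := fun e =>
    a0 (hk.disjoint W.binary hk' hne ha (sub_eq_zero.1 e ▸ hbm))
  have hcd : Perp H (b + a) (b - a) := ⟨h, by
    rw [show b + a - (b - a) = a + a by abel, smul_add, ← hb]; abel⟩
  obtain ⟨j, hj, hjd⟩ := exists_point_perp W hd0
  have hc' : b + a ∈ fixd V j := hjd _ hcd
  have hjP : move V j ≤ movePair V k k' := fun y hy =>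
    mem_movePair_of_perp W hk hk' hne fun t ht =>
      (perp_fixd_move W j (hjd t (perp_sub_right W (perp_fixd_move W k' ht.2 hbm)
        (perp_fixd_move W k ht.1 ha))) hy).symm W
  have hjk : j ≠ k := by
    rintro rfl
    have hbC := hk'.move_le_fixd_of_commute W.binary hk (Ne.symm hne) hc.symm hbm
    have := sub_mem hc' hbC
    rw [add_sub_cancel_left] at this
    exact a0 (eq_zero_of_perp_self W (perp_fixd_move W j this ha))
  have hjk' : j ≠ k' := by
    intro e
    have haC := hk.move_le_fixd_of_commute W.binary hk' hne hc ha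
    have := sub_mem (e ▸ hc') haC
    rw [add_sub_cancel_right] at this
    exact b0 (eq_zero_of_perp_self W (perp_fixd_move W k' this hbm))
  obtain ⟨x, x0, hx⟩ := hj.move_ne_bot
  obtain ⟨u, hu, v, hv, huv⟩ := AddSubgroup.mem_sup.1 (hjP hx)
  have key : ∀ p q : H, ∀ u v : V, IsMax V p → IsMax V q → p ≠ q → Commute p q → j ≠ p →
      j ≠ q → u ∈ move V p → v ∈ move V q → u + v = x → ¬ Commute j p := by
    intro p q u v hp hq hpq hcpq hjp hjq hu hv huv hcom
    have hxp := hj.move_le_fixd_of_commute W.binary hp hjp hcom hx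
    have hvp := hq.move_le_fixd_of_commute W.binary hp (Ne.symm hpq) hcpq.symm hv
    have hup : u ∈ fixd V p := by
      have := sub_mem hxp hvp
      rwa [← huv, add_sub_cancel_right] at this
    have u0 := eq_zero_of_perp_self W (perp_fixd_move W p hup hu)
    rw [u0, zero_add] at huv
    exact hjq (hj.unique W.binary hq x0 hx (huv ▸ hv))
  exact .inr (.inr ⟨j, hj, fun hh => key k k' u v hk hk' hne hc hjk hjk' hu hv huv hh.symm,
    key k' k v u hk' hk (Ne.symm hne) hc.symm hjk' hjk hv hu ((add_comm v u).trans huv)⟩)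

/-- Every vector lies in a point near `k₀`. -/
theorem exists_near_point (W : IsOdd H V) (hi : IsIrred H V) {k₀ : H} (hk₀ : IsMax V k₀) {v : V}
    (hv : v ≠ 0) : ∃ j, IsMax V j ∧ Near V k₀ j ∧ v ∈ move V j := by
  let U : AddSubgroup V :=
    { carrier := {v | v = 0 ∨ ∃ j, IsMax V j ∧ Near V k₀ j ∧ v ∈ move V j}
      zero_mem' := .inl rfl
      add_mem' := by
        rintro a b (rfl | ⟨p, hp, hnp, ha⟩) hb'
        · rwa [zero_add]
        rcases hb' with rfl | ⟨q, hq, hnq, hb'⟩
        · rw [add_zero]; exact .inr ⟨p, hp, hnp, ha⟩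
        by_cases h0 : a + b = 0
        · exact .inl h0
        exact .inr (near_add W hk₀ hp hq hnp hnq ha hb' h0)
      neg_mem' := by
        rintro a (rfl | ⟨p, hp, hnp, ha⟩)
        · exact .inl neg_zero
        · exact .inr ⟨p, hp, hnp, neg_mem ha⟩ }
  have hU : U = ⊤ :=
    span_conj_move hi hk₀ fun g w hw => .inr ⟨_, hk₀.conj g, near_conj W hk₀ g, hw⟩
  exact (hU ▸ AddSubgroup.mem_top v : v ∈ U).resolve_left hv

theorem near_all (W : IsOdd H V) (hi : IsIrred H V) {k₀ : H} (hk₀ : IsMax V k₀) {k : H}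
    (hk : IsMax V k) : Near V k₀ k := by
  obtain ⟨d, hd0, hd⟩ := hk.move_ne_bot
  obtain ⟨j, hj, hn, hjd⟩ := exists_near_point W hi hk₀ hd0
  rwa [hk.unique W.binary hj hd0 hd hjd]

end CfsgLib.BinAffine
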