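import Cfsg.Agent.BinAffine.Odd

/-!
In odd characteristic a binary irreducible linear group spans at most a plane of points, because a
finite projective plane has no polarity without absolute points.
-/

set_option autoImplicit false

namespace CfsgLib.BinAffine

variable {V H : Type*} [AddCommGroup V] [Group H] [DistribMulAction H V] [Finite V] [Finite H]
  [FaithfulSMul H V]

theorem card_move_all (W : IsOdd H V) (hi : IsIrred H V) {k₀ k : H} (hk₀ : IsMax V k₀)
    (hk : IsMax V k) : Nat.card (move V k) = Nat.card (move V k₀) := by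
  rcases near_all W hi hk₀ hk with h | h | ⟨c, hc, h1, h2⟩
  · rw [h]
  · exact (hk₀.card_move_eq W.binary hk h).symm
  · rw [hk₀.card_move_eq W.binary hc h1, hc.card_move_eq W.binary hk h2]

/-- The number of points inside a subgroup closed under taking points. -/
theorem card_points_mul (W : IsOdd H V) {m : ℕ} (hcard : ∀ k : H, IsMax V k → Nat.card (move V k) = m)
    {M : AddSubgroup V} (hM : ∀ v ∈ M, v ≠ 0 → ∃ j : H, IsMax V j ∧ v ∈ move V j ∧ move V j ≤ M) :
    Nat.card {j : H // IsMax V j ∧ move V j ≤ M} * (m - 1) = Nat.card M - 1 := by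
  classical
  have e : (Σ k : {j : H // IsMax V j ∧ move V j ≤ M}, {v : move V k.1 // v ≠ 0}) ≃
      {v : M // v ≠ 0} := by
    refine Equiv.ofBijective (fun x => ⟨⟨((x.2.1 : move V x.1.1) : V), x.1.2.2 x.2.1.2⟩,
      fun h => x.2.2 (Subtype.ext (congrArg (fun z : M => (z : V)) h))⟩) ⟨?_, ?_⟩
    · rintro ⟨k, v⟩ ⟨k', v'⟩ hxy
      have e : ((v.1 : move V k.1) : V) = v'.1 :=
        congrArg (fun z : {v : M // v ≠ 0} => ((z.1 : M) : V)) hxy
      have hv0 : ((v.1 : move V k.1) : V) ≠ 0 := fun h => v.2 (Subtype.ext h)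
      have : k = k' := Subtype.ext (k.2.1.unique W.binary k'.2.1 hv0 v.1.2 (e ▸ v'.1.2))
      subst this
      exact Sigma.ext rfl (heq_of_eq (Subtype.ext (Subtype.ext e)))
    · rintro ⟨⟨v, hv⟩, hne⟩
      obtain ⟨j, hj, hvj, hjM⟩ := hM v hv (fun h => hne (Subtype.ext h))
      exact ⟨⟨⟨j, hj, hjM⟩, ⟨⟨v, hvj⟩, fun h => hne (Subtype.ext (congrArg (fun z : move V j => (z : V)) h))⟩⟩, rfl⟩
  have h1 : ∀ k : {j : H // IsMax V j ∧ move V j ≤ M}, Nat.card {v : move V k.1 // v ≠ 0} = m - 1 := by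
    intro k
    haveI := Fintype.ofFinite (move V k.1)
    rw [Nat.card_eq_fintype_card, Fintype.card_subtype_compl, Fintype.card_subtype_eq,
      ← Nat.card_eq_fintype_card, hcard k.1 k.2.1]
  haveI := Fintype.ofFinite {j : H // IsMax V j ∧ move V j ≤ M}
  haveI := Fintype.ofFinite M
  have h2 : Nat.card {v : M // v ≠ 0} = Nat.card M - 1 := by
    rw [Nat.card_eq_fintype_card, Fintype.card_subtype_compl, Fintype.card_subtype_eq,
      ← Nat.card_eq_fintype_card]
  rw [← h2, ← Nat.card_congr e, Nat.card_sigma, Finset.sum_congr rfl (fun k _ => h1 k),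
    Finset.sum_const, Finset.card_univ, Nat.card_eq_fintype_card, smul_eq_mul]

omit [Finite V] [Finite H] [FaithfulSMul H V] in
theorem cast_count {q m N M : ℕ} (hq : q.Prime) (hm : q ∣ m) (hm1 : 0 < m) (hM : 0 < M)
    (hMq : q ∣ M) (h : N * (m - 1) = M - 1) : (N : ZMod q) = 1 := by
  have e := congrArg (fun x : ℕ => (x : ZMod q)) h
  simp only [Nat.cast_mul, Nat.cast_sub (show 1 ≤ m from hm1), Nat.cast_sub (show 1 ≤ M from hM),
    Nat.cast_one, (CharP.cast_eq_zero_iff (ZMod q) q m).2 hm] at e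
  rw [(CharP.cast_eq_zero_iff (ZMod q) q M).2 hMq] at e
  simpa using e

/-- There are no three independent points. -/
theorem movePair_eq_top (W : IsOdd H V) (hi : IsIrred H V) {k k' : H} (hk : IsMax V k)
    (hk' : IsMax V k') (hne : k ≠ k') : movePair V k k' = ⊤ := by
  classical
  by_contra htop
  obtain ⟨v, hv⟩ : ∃ v, v ∉ movePair V k k' := by
    by_contra hcon
    simp only [not_exists, not_not] at hcon
    exact htop (eq_top_iff.2 fun v _ => hcon v)
  have hv0 : v ≠ 0 := fun h => hv (h ▸ zero_mem _)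
  obtain ⟨g, hg, -, hvg⟩ := exists_near_point W hi hk hv0
  set m := Nat.card (move V k) with hm
  have hcard : ∀ j : H, IsMax V j → Nat.card (move V j) = m := fun j hj => card_move_all W hi hk hj
  have hpt : ∀ w : V, w ≠ 0 → ∃ j : H, IsMax V j ∧ w ∈ move V j := fun w hw => by
    obtain ⟨j, hj, -, h⟩ := exists_near_point W hi hk hw
    exact ⟨j, hj, h⟩
  have hgP : ∀ y ∈ movePair V k k', y ∈ move V g → y = 0 := by
    intro y hy hyg
    by_contra h0
    exact hv (point_le_movePair W hk hk' hne hg h0 hy hyg hvg)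
  let X : AddSubgroup V := movePair V k k' ⊔ move V g
  have hXcard : Nat.card X = m * m * m := by
    have e : Nat.card (movePair V k k' × move V g) = Nat.card X := by
      refine Nat.card_congr (Equiv.ofBijective
        (fun x : movePair V k k' × move V g => (⟨(x.1 : V) + x.2, add_mem
          (AddSubgroup.mem_sup_left x.1.2) (AddSubgroup.mem_sup_right x.2.2)⟩ : X)) ⟨?_, ?_⟩)
      · intro x y hxy
        have e : (x.1 : V) + x.2 = y.1 + y.2 := congrArg Subtype.val hxy
        have e2 : (x.1 : V) - y.1 = y.2 - x.2 := by rw [sub_eq_sub_iff_add_eq_add, e]; abel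
        have h0 := hgP _ (sub_mem x.1.2 y.1.2) (e2 ▸ (move V g).sub_mem y.2.2 x.2.2)
        have a := sub_eq_zero.1 h0
        rw [e2, sub_eq_zero] at h0
        exact Prod.ext (Subtype.ext a) (Subtype.ext h0.symm)
      · rintro ⟨w, hw⟩
        obtain ⟨p, hp, y, hy, rfl⟩ := AddSubgroup.mem_sup.1 hw
        exact ⟨(⟨p, hp⟩, ⟨y, hy⟩), rfl⟩
    rw [← e, Nat.card_prod, hk.card_movePair W.binary hk' hne, hcard k' hk', hcard g hg]
  -- every point of a vector of `X` lies in `X`
  have hX : ∀ w ∈ X, w ≠ 0 → ∃ j : H, IsMax V j ∧ w ∈ move V j ∧ move V j ≤ X := by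
    intro w hw hw0
    obtain ⟨j, hj, hwj⟩ := hpt w hw0
    refine ⟨j, hj, hwj, ?_⟩
    obtain ⟨p, hp, y, hy, rfl⟩ := AddSubgroup.mem_sup.1 hw
    by_cases hp0 : p = 0
    · rw [hj.unique W.binary hg hw0 hwj (by rw [hp0, zero_add]; exact hy)]
      exact le_sup_right
    obtain ⟨i, hi', hpi⟩ := hpt p hp0
    have hiP := point_le_movePair W hk hk' hne hi' hp0 hp hpi
    have hig : i ≠ g := fun e => hp0 (hgP p hp (e ▸ hpi))
    exact (point_le_movePair W hi' hg hig hj hw0
      (add_mem (AddSubgroup.mem_sup_left hpi) (AddSubgroup.mem_sup_right hy)) hwj).trans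
      (sup_le (hiP.trans le_sup_left) le_sup_right)
  let Pts := {j : H // IsMax V j ∧ move V j ≤ X}
  haveI : Fintype Pts := Fintype.ofFinite Pts
  let L : Pts → AddSubgroup V := fun Y => X ⊓ fixd V Y.1
  have hLcard : ∀ Y : Pts, Nat.card (L Y) = m * m := by
    intro Y
    have := card_inf_fixd W Y.2.2
    rw [hXcard, hcard _ Y.2.1] at this
    exact Nat.eq_of_mul_eq_mul_right (hm ▸ Nat.card_pos) this
  have hLclosed : ∀ Y : Pts, ∀ w ∈ L Y, w ≠ 0 →
      ∃ j : H, IsMax V j ∧ w ∈ move V j ∧ move V j ≤ L Y := by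
    intro Y w hw hw0
    obtain ⟨j, hj, hwj, hjX⟩ := hX w hw.1 hw0
    refine ⟨j, hj, hwj, le_inf hjX (hj.move_le_fixd_of_commute W.binary Y.2.1 ?_
      (hj.commute_of_mem W.binary hw0 hwj hw.2).symm)⟩
    rintro rfl
    exact hw0 (eq_zero_of_perp_self W (perp_fixd_move W _ hw.2 hwj))
  let inc : Pts → Pts → Prop := fun Y Z => move V Z.1 ≤ fixd V Y.1
  have inc_symm : ∀ Y Z, inc Y Z → inc Z Y := by
    intro Y Z h
    obtain ⟨d, d0, hd⟩ := Z.2.1.move_ne_bot
    refine Y.2.1.move_le_fixd_of_commute W.binary Z.2.1 ?_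
      (Z.2.1.commute_of_mem W.binary d0 hd (h hd))
    intro e
    exact d0 (eq_zero_of_perp_self W (perp_fixd_move W Y.1 (h hd) (e ▸ hd)))
  have inc_irrefl : ∀ Y, ¬ inc Y Y := fun Y h => by
    obtain ⟨d, d0, hd⟩ := Y.2.1.move_ne_bot
    exact d0 (eq_zero_of_perp_self W (perp_fixd_move W Y.1 (h hd) hd))
  have eN : ∀ M : AddSubgroup V, M ≤ X →
      Nat.card {Z : Pts // move V Z.1 ≤ M} = Nat.card {j : H // IsMax V j ∧ move V j ≤ M} := by
    intro M hM
    exact Nat.card_congr ⟨fun Z => ⟨Z.1.1, Z.1.2.1, Z.2⟩,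
      fun j => ⟨⟨j.1, j.2.1, j.2.2.trans hM⟩, j.2.2⟩, fun _ => rfl, fun _ => rfl⟩
  have one_pt : ∀ Y Z : Pts, Y ≠ Z → Nat.card {U : Pts // inc Y U ∧ inc Z U} = 1 := by
    intro Y Z hYZ
    set M := L Y ⊓ fixd V Z.1 with hMdef
    have hclosed : ∀ w ∈ M, w ≠ 0 → ∃ j : H, IsMax V j ∧ w ∈ move V j ∧ move V j ≤ M := by
      intro w hw hw0
      obtain ⟨j, hj, hwj, hjL⟩ := hLclosed Y w hw.1 hw0
      refine ⟨j, hj, hwj, le_inf hjL (hj.move_le_fixd_of_commute W.binary Z.2.1 ?_
        (hj.commute_of_mem W.binary hw0 hwj hw.2).symm)⟩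
      rintro rfl
      exact hw0 (eq_zero_of_perp_self W (perp_fixd_move W _ hw.2 hwj))
    have hMlow : m ≤ Nat.card M := by
      let φ : L Y →+ move V Z.1 := AddMonoidHom.codRestrict ((delta V Z.1).comp (L Y).subtype)
        (move V Z.1) fun w => smul_sub_mem_move _ _
      have hker : ∀ w : L Y, w ∈ φ.ker → (w : V) ∈ M := fun w hw => by
        refine ⟨w.2, ?_⟩
        show (w : V) ∈ fixd V Z.1
        rw [← ker_delta]
        exact congrArg Subtype.val hw
      have h1 : Nat.card φ.ker ≤ Nat.card M :=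
        Nat.card_le_card_of_injective (fun w => ⟨(w.1 : V), hker w.1 w.2⟩) fun a b h =>
          Subtype.ext (Subtype.ext (congrArg (fun z : M => (z : V)) h))
      have h2 : Nat.card (L Y) ≤ Nat.card φ.ker * m := by
        rw [AddSubgroup.card_eq_card_quotient_mul_card_addSubgroup φ.ker, mul_comm,
          Nat.card_congr (QuotientAddGroup.quotientKerEquivRange φ).toEquiv, ← hcard Z.1 Z.2.1]
        exact Nat.mul_le_mul_left _ (AddSubgroup.card_le_card_addGroup φ.range)
      rw [hLcard] at h2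
      exact (Nat.le_of_mul_le_mul_right h2 (hm ▸ Nat.card_pos)).trans h1
    have hm2 : 1 < m := by
      rw [hm]
      obtain ⟨d, d0, hd⟩ := hk.move_ne_bot
      exact Finite.one_lt_card_iff_nontrivial.2
        ⟨⟨⟨d, hd⟩, 0, fun h => d0 (congrArg Subtype.val h)⟩⟩
    have hsub : Subsingleton {j : H // IsMax V j ∧ move V j ≤ M} := by
      refine ⟨fun a b => ?_⟩
      by_contra hab
      have hne' : a.1 ≠ b.1 := fun h => hab (Subtype.ext h)
      have hle : movePair V a.1 b.1 ≤ M := sup_le a.2.2 b.2.2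
      have hfull : L Y ≤ fixd V Z.1 := by
        have e : movePair V a.1 b.1 = L Y := by
          refine AddSubgroup.eq_of_le_of_card_ge (hle.trans inf_le_left) ?_
          rw [hLcard, a.2.1.card_movePair W.binary b.2.1 hne', hcard _ a.2.1, hcard _ b.2.1]
        exact e ▸ hle.trans inf_le_right
      apply hYZ
      apply Subtype.ext
      obtain ⟨z, z0, hz⟩ := Z.2.1.move_ne_bot
      obtain ⟨c, hc, d, hd, hzcd⟩ := exists_fixd_add_move W Y.1 z
      have hcX : c ∈ X := by
        have := X.sub_mem (Z.2.2 hz) (Y.2.2 hd)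
        rwa [hzcd, add_sub_cancel_right] at this
      have h1 : Perp H c z := perp_fixd_move W Z.1 (hfull ⟨hcX, hc⟩) hz
      have h2 : Perp H c c := by
        have := perp_sub_right W h1 (perp_fixd_move W Y.1 hc hd)
        rwa [hzcd, add_sub_cancel_right] at this
      rw [eq_zero_of_perp_self W h2, zero_add] at hzcd
      exact Y.2.1.unique W.binary Z.2.1 z0 (hzcd ▸ hd) hz
    have hnon : Nonempty {j : H // IsMax V j ∧ move V j ≤ M} := by
      have : Nontrivial M := Finite.one_lt_card_iff_nontrivial.1 (lt_of_lt_of_le hm2 hMlow)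
      obtain ⟨w, hw⟩ := exists_ne (0 : M)
      obtain ⟨j, hj, -, hjM⟩ := hclosed w w.2 (fun h => hw (Subtype.ext h))
      exact ⟨⟨j, hj, hjM⟩⟩
    have h1 : Nat.card {j : H // IsMax V j ∧ move V j ≤ M} = 1 :=
      Nat.card_eq_one_iff_unique.2 ⟨hsub, hnon⟩
    rw [← h1, ← eN M (inf_le_left.trans inf_le_left)]
    exact Nat.card_congr (Equiv.subtypeEquivRight fun U =>
      ⟨fun h => le_inf (le_inf U.2.2 h.1) h.2,
        fun h => ⟨(h.trans inf_le_left).trans inf_le_right, h.trans inf_le_right⟩⟩)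
  -- count modulo a prime divisor of `m`
  obtain ⟨q, hq, hqm⟩ : ∃ q, q.Prime ∧ q ∣ m := by
    refine Nat.exists_prime_and_dvd ?_
    obtain ⟨d, d0, hd⟩ := hk.move_ne_bot
    exact (Finite.one_lt_card_iff_nontrivial.2
      ⟨⟨(⟨d, hd⟩ : move V k), 0, fun h => d0 (congrArg Subtype.val h)⟩⟩).ne'
  haveI := Fact.mk hq
  have hmpos : 0 < m := hm ▸ Nat.card_pos
  have hN : (Fintype.card Pts : ZMod q) = 1 := by
    rw [← Nat.card_eq_fintype_card]
    refine cast_count hq hqm hmpos (by positivity) (Dvd.dvd.mul_left hqm (m * m)) ?_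
    rw [← hXcard]
    exact card_points_mul W hcard hX
  have hR : ∀ Y : Pts, (Nat.card {Z : Pts // inc Y Z} : ZMod q) = 1 := by
    intro Y
    refine cast_count hq hqm hmpos (by positivity) (Dvd.dvd.mul_left hqm m) ?_
    rw [← hLcard Y, ← card_points_mul W hcard (hLclosed Y), ← eN (L Y) inf_le_left]
    congr 1
    exact Nat.card_congr (Equiv.subtypeEquivRight fun Z =>
      ⟨fun h => le_inf Z.2.2 h, fun h => h.trans inf_le_right⟩)
  let A : Matrix Pts Pts (ZMod q) := Matrix.of fun Y Z => if inc Y Z then 1 else 0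
  let J : Matrix Pts Pts (ZMod q) := Matrix.of fun _ _ => 1
  have hcount : ∀ (P : Pts → Prop) [DecidablePred P], (∑ U : Pts, if P U then (1 : ZMod q) else 0) =
      (Nat.card {U : Pts // P U} : ZMod q) := by
    intro P _
    rw [Finset.sum_boole, Nat.card_eq_fintype_card, Fintype.card_subtype]
  have hAA : A * A = J := by
    ext Y Z
    rw [Matrix.mul_apply]
    have e : ∀ U, A Y U * A U Z = if inc Y U ∧ inc Z U then (1 : ZMod q) else 0 := by
      intro U
      have e1 : inc U Z ↔ inc Z U := ⟨inc_symm _ _, inc_symm _ _⟩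
      simp only [A, Matrix.of_apply, ite_and, e1]
      split_ifs <;> simp
    rw [Finset.sum_congr rfl (fun U _ => e U), hcount]
    by_cases hYZ : Y = Z
    · subst hYZ
      simp only [and_self]
      rw [hR]; rfl
    · rw [one_pt Y Z hYZ, Nat.cast_one]; rfl
  have hAJ : A * J = J := by
    ext Y Z
    simp only [Matrix.mul_apply, A, J, Matrix.of_apply, mul_one]
    rw [hcount, hR]
  have hJA : J * A = J := by
    ext Y Z
    simp only [Matrix.mul_apply, A, J, Matrix.of_apply, one_mul]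
    rw [hcount, ← hR Z]
    exact congrArg _ (Nat.card_congr (Equiv.subtypeEquivRight fun U =>
      ⟨inc_symm _ _, inc_symm _ _⟩))
  have hJJ : J * J = J := by
    ext Y Z
    simp [Matrix.mul_apply, J, hN]
  have hnil : IsNilpotent (A - J) := ⟨2, by
    rw [sq, Matrix.sub_mul, Matrix.mul_sub, Matrix.mul_sub, hAA, hAJ, hJA, hJJ]; simp⟩
  have htr : Matrix.trace (A - J) = -1 := by
    simp [Matrix.trace, A, J, inc_irrefl, hN]
  have h0 := (Matrix.isNilpotent_trace_of_isNilpotent hnil).eq_zero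
  rw [htr] at h0
  exact one_ne_zero (neg_eq_zero.1 h0)

/-- The configuration in odd characteristic. -/
theorem plane_odd (hb : IsBinary H V) (hi : IsIrred H V) (ho : ∀ v : V, v + v = 0 → v = 0)
    {k₀ : H} (hk₀ : IsMax V k₀) :
    (∃ m, IsPlane V H m) ∨ ∀ h : H, h = 1 ∨ h = k₀ := by
  have W : IsOdd H V := ⟨hb, ho, exists_neg hb hi ho hk₀⟩
  by_cases hsingle : ∀ k : H, IsMax V k → k = k₀
  · right
    intro h
    by_cases h1 : h = 1
    · exact .inl h1
    right
    have hC : fixd V k₀ = ⊥ := by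
      refine eq_bot_iff.2 fun v hv => eq_zero_of_forall_conj hi hk₀ fun g => ?_
      rw [hsingle _ (hk₀.conj g)]; exact hv
    exact hsingle h (hk₀.of_le h1 (hC ▸ bot_le)).1
  left
  simp only [not_forall] at hsingle
  obtain ⟨k₁, hk₁, hne₁⟩ := hsingle
  set m := Nat.card (move V k₀) with hm
  have hcard : ∀ j : H, IsMax V j → Nat.card (move V j) = m := fun j hj =>
    card_move_all W hi hk₀ hj
  have hP := fun (k k' : H) (hk : IsMax V k) (hk' : IsMax V k') (h : k ≠ k') =>
    movePair_eq_top W hi hk hk' h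
  have hV : Nat.card V = m * m := by
    rw [← AddSubgroup.card_top (G := V), ← hP k₁ k₀ hk₁ hk₀ hne₁,
      hk₁.card_movePair hb hk₀ hne₁, hcard k₁ hk₁]
  obtain ⟨e, e0, he⟩ := hk₀.move_ne_bot
  have hm1 : 1 < m := by
    rw [hm]
    exact Finite.one_lt_card_iff_nontrivial.2 ⟨⟨⟨e, he⟩, 0, fun h => e0 (congrArg Subtype.val h)⟩⟩
  have hfix : ∀ j : H, IsMax V j → Nat.card (fixd V j) = m := by
    intro j hj
    have := card_fixd_mul_card_move (V := V) j
    rw [hcard j hj, hV] at this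
    exact Nat.eq_of_mul_eq_mul_right (by omega) this
  refine ⟨m, ⟨hm1, hV, hcard, fun v hv => ?_, fun k k' hk hk' hne => ?_, ?_⟩⟩
  · obtain ⟨j, hj, -, h⟩ := exists_near_point W hi hk₀ hv
    exact ⟨j, hj, h⟩
  · exact eq_bot_iff.2 fun v hv =>
      disjoint_odd W k k' v (hP k k' hk hk' hne ▸ AddSubgroup.mem_top v) hv
  · have : Nontrivial (fixd V k₀) := Finite.one_lt_card_iff_nontrivial.1 (by rw [hfix k₀ hk₀]; exact hm1)
    obtain ⟨⟨c, hc⟩, hc0'⟩ := exists_ne (0 : fixd V k₀)
    have hc0 : c ≠ 0 := fun h => hc0' (Subtype.ext h)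
    obtain ⟨j, hj, -, hcj⟩ := exists_near_point W hi hk₀ hc0
    have hne : j ≠ k₀ := by
      rintro rfl
      exact hc0 (eq_zero_of_perp_self W (perp_fixd_move W _ hc hcj))
    have hcomm : Commute j k₀ := (hj.commute_of_mem hb hc0 hcj hc).symm
    have hEC : move V k₀ = fixd V j := AddSubgroup.eq_of_le_of_card_ge
      (hk₀.move_le_fixd_of_commute hb hj (Ne.symm hne) hcomm.symm)
      (by rw [hfix j hj, hcard k₀ hk₀])
    refine ⟨e, e0, j, hj, hEC.le he, fun h hh => ?_⟩
    by_cases h1 : h = 1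
    · exact .inl h1
    right
    have hV2 : ∀ a b : V, a ≠ 0 → a + a = 0 → b + b = 0 := fun a _ ha haa => absurd (ho a haa) ha
    have hle : fixd V j ≤ fixd V h := hEC ▸ (hk₀.move_le_fixd hb hV2 e0 he hh).2
    obtain ⟨hhm, hhC⟩ := hj.of_le h1 hle
    obtain ⟨d, d0, hd⟩ := hhm.move_ne_bot
    refine hhm.unique hb hj d0 hd (mem_move_of_perp W j fun c hc' => ?_)
    exact (perp_fixd_move W h (hhC.symm ▸ hc') hd).symm W

end CfsgLib.BinAffine
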