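import Cfsg.Agent.BinAffine.Basic

/-!
Pairs of maximal elements of a binary linear group.
-/

set_option autoImplicit false

namespace CfsgLib.BinAffine

variable {V H : Type*} [AddCommGroup V] [Group H] [DistribMulAction H V] [FaithfulSMul H V]
  [Finite V]

/-- The fixed points of a pair. -/
def fixdPair (V : Type*) {H : Type*} [AddCommGroup V] [Group H] [DistribMulAction H V] (k k' : H) :
    AddSubgroup V := fixd V k ⊓ fixd V k'

/-- The sum of the commutator subgroups of a pair. -/
def movePair (V : Type*) {H : Type*} [AddCommGroup V] [Group H] [DistribMulAction H V] (k k' : H) :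
    AddSubgroup V := move V k ⊔ move V k'

theorem IsMax.move_le_fixd_of_commute (hb : IsBinary H V) {k k' : H} (hk : IsMax V k)
    (hk' : IsMax V k') (hne : k ≠ k') (hc : Commute k k') : move V k ≤ fixd V k' := by
  intro d hd
  have h1 : k' • d - d ∈ move V k := sub_mem (smul_move_of_commute hc.symm hd) hd
  have := hk.disjoint hb hk' hne h1 (smul_sub_mem_move k' d)
  rwa [sub_eq_zero] at this

theorem IsMax.commute_of_mem (hb : IsBinary H V) {k : H} (hk : IsMax V k) {h : H} {e : V}
    (he0 : e ≠ 0) (he : e ∈ move V k) (hhe : e ∈ fixd V h) : Commute h k :=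
  hk.commute_of_smul_mem hb he0 he (by rw [mem_fixd.1 hhe]; exact he)

theorem IsMax.inter_fixd_eq (hb : IsBinary H V) {k : H} (hk : IsMax V k) {h : H}
    (hnc : ¬ Commute h k) {e : V} (he : e ∈ move V k) (hhe : e ∈ fixd V h) : e = 0 := by
  by_contra h0
  exact hnc (hk.commute_of_mem hb h0 he hhe)

theorem IsMax.card_move_le (hb : IsBinary H V) {k k' : H} (hk : IsMax V k)
    (hnc : ¬ Commute k' k) : Nat.card (move V k) ≤ Nat.card (move V k') := by
  refine Nat.card_le_card_of_injective
    (fun x : move V k => (⟨k' • (x : V) - x, smul_sub_mem_move k' (x : V)⟩ : move V k')) ?_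
  intro x y hxy
  have e : k' • (x : V) - x = k' • (y : V) - y := congrArg Subtype.val hxy
  have h1 : ((x : V) - y) ∈ fixd V k' := by
    rw [mem_fixd, smul_sub]
    have : k' • (x : V) = k' • (y : V) - y + x := by rw [← e]; abel
    rw [this]; abel
  have := hk.inter_fixd_eq hb hnc (sub_mem x.2 y.2) h1
  exact Subtype.ext (sub_eq_zero.1 this)

theorem IsMax.card_move_eq (hb : IsBinary H V) {k k' : H} (hk : IsMax V k) (hk' : IsMax V k')
    (hnc : ¬ Commute k k') : Nat.card (move V k) = Nat.card (move V k') :=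
  le_antisymm (hk.card_move_le hb fun h => hnc h.symm) (hk'.card_move_le hb hnc)

omit [FaithfulSMul H V] [Finite V] in
theorem smul_movePair_mem {k k' : H} {v : V} (hv : v ∈ movePair V k k') :
    k • v ∈ movePair V k k' ∧ k' • v ∈ movePair V k k' := by
  constructor
  · have := add_mem (AddSubgroup.mem_sup_left (T := move V k') (smul_sub_mem_move k v)) hv
    rwa [sub_add_cancel] at this
  · have := add_mem (AddSubgroup.mem_sup_right (S := move V k) (smul_sub_mem_move k' v)) hv
    rwa [sub_add_cancel] at this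

theorem IsMax.fixd_mul (hb : IsBinary H V) {k k' : H} (hk : IsMax V k) (hk' : IsMax V k')
    (hne : k ≠ k') : fixd V (k * k') = fixdPair V k k' := by
  refine le_antisymm (fun v hv => ?_) (fixd_inf_le_mul k k')
  have h1 : k' • v = k • v := by
    rw [mem_fixd, mul_smul] at hv
    calc k' • v = k • k • k' • v := (hk.smul_smul_self hb _).symm
      _ = k • v := by rw [hv]
  have h2 : k • v - v = 0 := hk.disjoint hb hk' hne (smul_sub_mem_move k v)
    (h1 ▸ smul_sub_mem_move k' v)
  rw [sub_eq_zero] at h2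
  exact ⟨h2, h1.trans h2⟩

theorem IsMax.card_movePair (hb : IsBinary H V) {k k' : H} (hk : IsMax V k) (hk' : IsMax V k')
    (hne : k ≠ k') :
    Nat.card (movePair V k k') = Nat.card (move V k) * Nat.card (move V k') := by
  rw [← Nat.card_prod]
  refine (Nat.card_congr (Equiv.ofBijective
    (fun x : move V k × move V k' => (⟨(x.1 : V) + x.2, add_mem (AddSubgroup.mem_sup_left x.1.2)
      (AddSubgroup.mem_sup_right x.2.2)⟩ : movePair V k k')) ⟨?_, ?_⟩)).symm
  · intro x y hxy
    have e : (x.1 : V) + x.2 = y.1 + y.2 := congrArg Subtype.val hxy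
    have e2 : (x.1 : V) - y.1 = y.2 - x.2 := by
      rw [sub_eq_sub_iff_add_eq_add, e]; abel
    have h0 := hk.disjoint hb hk' hne (sub_mem x.1.2 y.1.2) (e2 ▸ sub_mem y.2.2 x.2.2)
    have a := sub_eq_zero.1 h0
    rw [e2, sub_eq_zero] at h0
    exact Prod.ext (Subtype.ext a) (Subtype.ext h0.symm)
  · rintro ⟨v, hv⟩
    obtain ⟨a, ha, b, hb', rfl⟩ := AddSubgroup.mem_sup.1 hv
    exact ⟨(⟨a, ha⟩, ⟨b, hb'⟩), rfl⟩

/-- If `T` meets `P` trivially then `V = P + T`. -/
theorem exists_decomp (hb : IsBinary H V) {k k' : H} (hk : IsMax V k) (hk' : IsMax V k')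
    (hne : k ≠ k')
    (hdis : ∀ v ∈ movePair V k k', v ∈ fixdPair V k k' → v = 0) (v : V) :
    ∃ p ∈ movePair V k k', ∃ t ∈ fixdPair V k k', v = p + t := by
  let ψ : movePair V k k' → move V k × move V k' := fun p =>
    (⟨k • (p : V) - p, smul_sub_mem_move k (p : V)⟩, ⟨k' • (p : V) - p, smul_sub_mem_move k' (p : V)⟩)
  have hψ : Function.Injective ψ := by
    intro x y hxy
    have e1 : delta V k (x : V) = delta V k y := congrArg (fun z => (z.1 : V)) hxy
    have e2 : delta V k' (x : V) = delta V k' y := congrArg (fun z => (z.2 : V)) hxy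
    refine Subtype.ext (sub_eq_zero.1 (hdis _ (sub_mem x.2 y.2) ⟨?_, ?_⟩))
    · show (x : V) - y ∈ fixd V k
      rw [← ker_delta, AddMonoidHom.mem_ker, map_sub, e1, sub_self]
    · show (x : V) - y ∈ fixd V k'
      rw [← ker_delta, AddMonoidHom.mem_ker, map_sub, e2, sub_self]
  have hbij : Function.Bijective ψ := (Nat.bijective_iff_injective_and_card ψ).2
    ⟨hψ, by rw [Nat.card_prod, hk.card_movePair hb hk' hne]⟩
  obtain ⟨p, hp⟩ := hbij.2 (⟨k • v - v, smul_sub_mem_move k v⟩, ⟨k' • v - v, smul_sub_mem_move k' v⟩)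
  have e1 : delta V k (p : V) = delta V k v := congrArg (fun z => (z.1 : V)) hp
  have e2 : delta V k' (p : V) = delta V k' v := congrArg (fun z => (z.2 : V)) hp
  refine ⟨p, p.2, v - p, ⟨?_, ?_⟩, by abel⟩
  · show v - p ∈ fixd V k
    rw [← ker_delta, AddMonoidHom.mem_ker, map_sub, e1, sub_self]
  · show v - p ∈ fixd V k'
    rw [← ker_delta, AddMonoidHom.mem_ker, map_sub, e2, sub_self]

theorem card_decomp (hb : IsBinary H V) {k k' : H} (hk : IsMax V k) (hk' : IsMax V k')
    (hne : k ≠ k')
    (hdis : ∀ v ∈ movePair V k k', v ∈ fixdPair V k k' → v = 0) :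
    Nat.card (movePair V k k') * Nat.card (fixdPair V k k') = Nat.card V := by
  rw [← Nat.card_prod]
  refine Nat.card_congr (Equiv.ofBijective
    (fun x : movePair V k k' × fixdPair V k k' => (x.1 : V) + x.2) ⟨?_, ?_⟩)
  · intro x y e
    have e2 : (x.1 : V) - y.1 = y.2 - x.2 := by
      rw [sub_eq_sub_iff_add_eq_add]; simpa [add_comm] using e
    have h0 := hdis _ (sub_mem x.1.2 y.1.2) (e2 ▸ sub_mem y.2.2 x.2.2)
    have a := sub_eq_zero.1 h0
    rw [e2, sub_eq_zero] at h0
    exact Prod.ext (Subtype.ext a) (Subtype.ext h0.symm)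
  · intro v
    obtain ⟨p, hp, t, ht, e⟩ := exists_decomp hb hk hk' hne hdis v
    exact ⟨(⟨p, hp⟩, ⟨t, ht⟩), e.symm⟩

/-- The product `k k'` moves every vector of `P` and only there. -/
theorem mul_delta_surj (hb : IsBinary H V) {k k' : H} (hk : IsMax V k) (hk' : IsMax V k')
    (hne : k ≠ k')
    (hdis : ∀ v ∈ movePair V k k', v ∈ fixdPair V k k' → v = 0) {d : V}
    (hd : d ∈ movePair V k k') : ∃ u ∈ movePair V k k', (k * k') • u = u + d := by
  let φ : movePair V k k' → movePair V k k' := fun p =>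
    ⟨(k * k') • (p : V) - p, sub_mem (by
      rw [mul_smul]; exact (smul_movePair_mem (smul_movePair_mem p.2).2).1) p.2⟩
  have hφ : Function.Injective φ := by
    intro x y hxy
    have e : delta V (k * k') (x : V) = delta V (k * k') y := congrArg Subtype.val hxy
    refine Subtype.ext (sub_eq_zero.1 (hdis _ (sub_mem x.2 y.2) ?_))
    rw [← hk.fixd_mul hb hk' hne, ← ker_delta, AddMonoidHom.mem_ker, map_sub, e, sub_self]
  obtain ⟨u, hu⟩ := (Finite.injective_iff_surjective.1 hφ) ⟨d, hd⟩
  have e : (k * k') • (u : V) - u = d := congrArg Subtype.val hu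
  exact ⟨u, u.2, by rw [← e]; abel⟩

/-- The commutator subgroups of the conjugates of a maximal element span. -/
theorem span_conj_move (hi : IsIrred H V) {k : H} (hk : IsMax V k) {M : AddSubgroup V}
    (hM : ∀ g : H, move V (g * k * g⁻¹) ≤ M) : M = ⊤ := by
  let S : AddSubgroup V := AddSubgroup.closure {d | ∃ g : H, d ∈ move V (g * k * g⁻¹)}
  have hS : ∀ h : H, ∀ v ∈ S, h • v ∈ S := by
    intro h v hv
    induction hv using AddSubgroup.closure_induction with
    | mem x hx =>
      obtain ⟨g, hg⟩ := hx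
      refine AddSubgroup.subset_closure ⟨h * g, ?_⟩
      rw [move_conj] at hg ⊢
      rwa [mul_inv_rev, mul_smul, inv_smul_smul]
    | zero => rw [smul_zero]; exact zero_mem _
    | add x y _ _ hx hy => rw [smul_add]; exact add_mem hx hy
    | neg x _ hx => rw [smul_neg]; exact neg_mem hx
  rcases hi S hS with h | h
  · exfalso
    obtain ⟨d, hd0, hd⟩ := hk.move_ne_bot
    have : d ∈ S := AddSubgroup.subset_closure ⟨1, by rwa [one_mul, inv_one, mul_one]⟩
    rw [h, AddSubgroup.mem_bot] at this
    exact hd0 this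
  · refine eq_top_iff.2 (h ▸ ?_)
    exact (AddSubgroup.closure_le M).2 fun d ⟨g, hg⟩ => hM g hg

/-- Only zero is fixed by every conjugate of a maximal element. -/
theorem eq_zero_of_forall_conj (hi : IsIrred H V) {k : H} (hk : IsMax V k) {v : V}
    (hv : ∀ g : H, v ∈ fixd V (g * k * g⁻¹)) : v = 0 := by
  let M : AddSubgroup V :=
    { carrier := {w | ∀ g : H, w ∈ fixd V (g * k * g⁻¹)}
      zero_mem' := fun g => zero_mem _
      add_mem' := fun ha hb g => add_mem (ha g) (hb g)
      neg_mem' := fun ha g => neg_mem (ha g) }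
  rcases hi M (fun h w hw g => by
    have := hw (h⁻¹ * g)
    rw [fixd_conj] at this ⊢
    rwa [mul_inv_rev, inv_inv, mul_smul] at this) with h | h
  · have : v ∈ M := hv
    rwa [h, AddSubgroup.mem_bot] at this
  · exfalso
    refine fixd_ne_top (V := V) hk.1 (eq_top_iff.2 fun w _ => ?_)
    have : w ∈ M := h ▸ AddSubgroup.mem_top w
    have h2 := this 1
    rwa [one_mul, inv_one, mul_one] at h2

end CfsgLib.BinAffine
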