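import Cfsg.Agent.BinAffine.Pairs

/-!
In odd characteristic a binary linear group contains `-1` and carries an anisotropic symmetric
orthogonality relation.
-/

set_option autoImplicit false

namespace CfsgLib.BinAffine

variable {V H : Type*} [AddCommGroup V] [Group H] [DistribMulAction H V] [Finite V] [Finite H]
  [FaithfulSMul H V]

theorem exists_half (ho : ∀ v : V, v + v = 0 → v = 0) (d : V) : ∃ v, v + v = d := by
  suffices hinj : Function.Injective (fun v : V => v + v) from Finite.injective_iff_surjective.1 hinj d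
  intro a b (e : a + a = b + b)
  refine sub_eq_zero.1 (ho _ ?_)
  rw [show a - b + (a - b) = (a + a) - (b + b) by abel, e, sub_self]

theorem eq_zero_of_eq_neg (ho : ∀ v : V, v + v = 0 → v = 0) {v : V} (h : v = -v) : v = 0 :=
  ho v (eq_neg_iff_add_eq_zero.1 h)

/-- `-1` belongs to the group. -/
theorem exists_neg (hb : IsBinary H V) (hi : IsIrred H V) (ho : ∀ v : V, v + v = 0 → v = 0) {k₀ : H}
    (hk₀ : IsMax V k₀) : ∃ z : H, ∀ v : V, z • v = -v := by
  obtain ⟨h, h1, hmin⟩ := Set.exists_min_image {h : H | h ≠ 1}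
    (fun h => Nat.card (fixd V h)) (Set.toFinite _) ⟨k₀, hk₀.1⟩
  obtain ⟨g, hg⟩ := hb (move V h : Set V) (fun v => -v)
    (fun d hd => by
      obtain ⟨g, -, -, hneg⟩ := exists_shift hb d
      exact ⟨g, hneg ⟨h, hd⟩⟩)
    (fun a ha b hb' => by
      obtain ⟨g, -, -, hneg⟩ := exists_shift hb (a - b)
      exact ⟨g, by rw [hneg ⟨h, sub_mem ha hb'⟩]; abel⟩)
  have hXg : move V h ≤ move V g := by
    intro d hd
    obtain ⟨v, hv⟩ := exists_half ho d
    refine mem_move.2 ⟨-v, ?_⟩
    have hv2 : v ∈ move V h := by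
      have hinj : Function.Injective (fun x : move V h => x + x) := by
        intro a b e
        have e' : (a : V) + a = b + b := congrArg Subtype.val e
        refine Subtype.ext (sub_eq_zero.1 (ho _ ?_))
        rw [show (a : V) - b + ((a : V) - b) = ((a : V) + a) - (b + b) by abel, e', sub_self]
      obtain ⟨w, hw⟩ := Finite.injective_iff_surjective.1 hinj ⟨d, hd⟩
      have hw' : (w : V) + w = d := congrArg Subtype.val hw
      have : v = w := sub_eq_zero.1 (ho _ (by
        rw [show v - (w : V) + (v - w) = (v + v) - ((w : V) + w) by abel, hv, hw', sub_self]))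
      exact this ▸ w.2
    rw [smul_neg, hg v hv2, ← hv]; abel
  have g1 : g ≠ 1 := by
    rintro rfl
    refine move_ne_bot (V := V) h1 (eq_bot_iff.2 (hXg.trans ?_))
    rintro _ ⟨u, rfl⟩
    simp [delta_apply]
  have hle : Nat.card (fixd V h) ≤ Nat.card (fixd V g) := hmin g g1
  have hXeq : move V g = move V h := by
    refine (AddSubgroup.eq_of_le_of_card_ge hXg ?_).symm
    have a1 := card_fixd_mul_card_move (V := V) h
    have a2 := card_fixd_mul_card_move (V := V) g
    refine Nat.le_of_mul_le_mul_left ?_ (Nat.card_pos (α := fixd V g))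
    rw [a2, ← a1]
    exact Nat.mul_le_mul_right _ hle
  have hall : ∀ k : H, IsMax V k → fixd V g ≤ fixd V k := by
    intro k hk
    by_cases hd : ∃ d, d ≠ 0 ∧ d ∈ move V k ∧ d ∈ move V g
    · obtain ⟨d, hd0, hdk, hdg⟩ := hd
      exact (hk.meet hb hd0 hdk hdg).1
    simp only [not_exists, not_and] at hd
    have hy1 : g⁻¹ * k ≠ 1 := by
      intro e
      obtain ⟨d, hd0, hdk⟩ := hk.move_ne_bot
      exact hd d hd0 hdk (inv_mul_eq_one.1 e ▸ hdk)
    have hy : fixd V (g⁻¹ * k) ≤ fixd V g ⊓ fixd V k := by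
      intro v hv
      rw [mem_fixd, mul_smul, inv_smul_eq_iff] at hv
      have h0 : k • v - v = 0 := by
        by_contra h0
        exact hd _ h0 (smul_sub_mem_move k v) (hv ▸ smul_sub_mem_move g v)
      rw [sub_eq_zero] at h0
      exact ⟨hv.symm.trans h0, h0⟩
    have hcy := hmin _ hy1
    have hcgh : Nat.card (fixd V g) = Nat.card (fixd V h) := by
      have a1 := card_fixd_mul_card_move (V := V) h
      have a2 := card_fixd_mul_card_move (V := V) g
      rw [hXeq, ← a1] at a2
      exact Nat.eq_of_mul_eq_mul_right Nat.card_pos a2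
    have : fixd V g ⊓ fixd V k = fixd V g := by
      refine AddSubgroup.eq_of_le_of_card_ge inf_le_left ?_
      rw [hcgh]
      exact le_trans hcy (AddSubgroup.card_le_of_le hy)
    exact this ▸ inf_le_right
  have hC : fixd V g = ⊥ := eq_bot_iff.2 fun v hv =>
    eq_zero_of_forall_conj hi hk₀ fun x => hall _ (hk₀.conj x) hv
  have htop : move V h = ⊤ := by
    apply AddSubgroup.eq_top_of_card_eq
    rw [← card_fixd_mul_card_move (V := V) g, hC, AddSubgroup.card_bot, one_mul, hXeq]
  exact ⟨g, fun v => hg v (htop ▸ AddSubgroup.mem_top v)⟩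

/-- Orthogonality. -/
def Perp (H : Type*) {V : Type*} [AddCommGroup V] [Group H] [DistribMulAction H V] (c d : V) :
    Prop := ∃ h : H, h • (c - d) = c + d

/-- The setting of odd characteristic. -/
structure IsOdd (H V : Type*) [AddCommGroup V] [Group H] [DistribMulAction H V] : Prop where
  binary : IsBinary H V
  odd : ∀ v : V, v + v = 0 → v = 0
  neg : ∃ z : H, ∀ v : V, z • v = -v

omit [Finite V] [Finite H] [FaithfulSMul H V] in
theorem Perp.symm (W : IsOdd H V) {c d : V} (h : Perp H c d) : Perp H d c := by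
  obtain ⟨h, hh⟩ := h
  obtain ⟨z, hz⟩ := W.neg
  refine ⟨z * h, ?_⟩
  rw [mul_smul, ← neg_sub c d, smul_neg, hh, smul_neg, hz]; abel

omit [Finite V] [Finite H] [FaithfulSMul H V] in
theorem perp_zero (c : V) : Perp H c (0 : V) := ⟨1, by simp⟩

omit [Finite H] in
theorem exists_reflect (W : IsOdd H V) {d : V} (hd : d ≠ 0) :
    ∃ K : H, K ≠ 1 ∧ (∀ c, Perp H c d ↔ c ∈ fixd V K) ∧
      ∀ h : H, d + d ∈ move V h → fixd V h ≤ fixd V K := by
  obtain ⟨K, hK, hle, -⟩ := exists_shift W.binary (d + d)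
  obtain ⟨z, hz⟩ := W.neg
  have hKd : K • (-d) = d := by
    rw [hK (-d) ⟨z, by rw [hz]; abel⟩]; abel
  refine ⟨K, ?_, fun c => ⟨fun hc => ?_, fun hc => ?_⟩, hle⟩
  · rintro rfl
    rw [one_smul] at hKd
    exact hd (eq_zero_of_eq_neg W.odd hKd.symm)
  · obtain ⟨h, hh⟩ := hc
    have e := hK (c - d) ⟨h, by rw [hh]; abel⟩
    rw [sub_eq_add_neg, smul_add, hKd] at e
    have : K • c + d = c + d := by rw [e]; abel
    exact add_right_cancel this
  · exact ⟨K, by rw [sub_eq_add_neg, smul_add, hKd, mem_fixd.1 hc]⟩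

/-- The orthogonal subgroup of a set. -/
def perp (W : IsOdd H V) (S : Set V) : AddSubgroup V where
  carrier := {c | ∀ d ∈ S, Perp H c d}
  zero_mem' := fun d _ => (perp_zero d).symm W
  add_mem' := by
    intro a b ha hb d hd
    by_cases h0 : d = 0
    · rw [h0]; exact perp_zero _
    obtain ⟨K, -, hK, -⟩ := exists_reflect W h0
    exact (hK _).2 (add_mem ((hK a).1 (ha d hd)) ((hK b).1 (hb d hd)))
  neg_mem' := by
    intro a ha d hd
    by_cases h0 : d = 0
    · rw [h0]; exact perp_zero _
    obtain ⟨K, -, hK, -⟩ := exists_reflect W h0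
    exact (hK _).2 (neg_mem ((hK a).1 (ha d hd)))

omit [Finite H] in
theorem perp_add_right (W : IsOdd H V) {c a b : V} (ha : Perp H c a) (hb : Perp H c b) :
    Perp H c (a + b) := by
  have : a + b ∈ perp W {c} := add_mem
    (fun d hd => Set.mem_singleton_iff.1 hd ▸ ha.symm W)
    (fun d hd => Set.mem_singleton_iff.1 hd ▸ hb.symm W)
  exact (this c rfl).symm W

omit [Finite H] in
theorem perp_sub_right (W : IsOdd H V) {c a b : V} (ha : Perp H c a) (hb : Perp H c b) :
    Perp H c (a - b) := by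
  have : a - b ∈ perp W {c} := sub_mem
    (fun d hd => Set.mem_singleton_iff.1 hd ▸ ha.symm W)
    (fun d hd => Set.mem_singleton_iff.1 hd ▸ hb.symm W)
  exact (this c rfl).symm W

omit [Finite H] in
theorem eq_zero_of_perp_self (W : IsOdd H V) {d : V} (h : Perp H d d) : d = 0 := by
  obtain ⟨g, hg⟩ := h
  rw [sub_self, smul_zero] at hg
  exact W.odd d hg.symm

omit [Finite H] in
theorem perp_fixd_move (W : IsOdd H V) (h : H) {c d : V} (hc : c ∈ fixd V h) (hd : d ∈ move V h) :
    Perp H c d := by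
  by_cases h0 : d = 0
  · rw [h0]; exact perp_zero _
  obtain ⟨K, -, hK, hle⟩ := exists_reflect W h0
  exact (hK c).2 (hle h (add_mem hd hd) hc)

omit [Finite H] in
theorem exists_fixd_add_move (W : IsOdd H V) (h : H) (v : V) :
    ∃ c ∈ fixd V h, ∃ d ∈ move V h, v = c + d := by
  have hinj : Function.Injective (fun x : fixd V h × move V h => (x.1 : V) + x.2) := by
    intro x y e
    have e2 : (x.1 : V) - y.1 = y.2 - x.2 := by
      rw [sub_eq_sub_iff_add_eq_add]; simpa [add_comm] using e
    have m1 : (x.1 : V) - y.1 ∈ fixd V h := sub_mem x.1.2 y.1.2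
    have m2 : (x.1 : V) - y.1 ∈ move V h := e2 ▸ (move V h).sub_mem y.2.2 x.2.2
    have h0 := eq_zero_of_perp_self W (perp_fixd_move W h m1 m2)
    have a := sub_eq_zero.1 h0
    rw [e2, sub_eq_zero] at h0
    exact Prod.ext (Subtype.ext a) (Subtype.ext h0.symm)
  obtain ⟨x, hx⟩ := ((Nat.bijective_iff_injective_and_card _).2
    ⟨hinj, by rw [Nat.card_prod, card_fixd_mul_card_move]⟩).2 v
  exact ⟨x.1, x.1.2, x.2, x.2.2, hx.symm⟩

omit [Finite H] in
theorem mem_fixd_of_perp (W : IsOdd H V) (h : H) {v : V}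
    (hv : ∀ d ∈ move V h, Perp H v d) : v ∈ fixd V h := by
  obtain ⟨c, hc, d, hd, rfl⟩ := exists_fixd_add_move W h v
  have : Perp H d d := by
    have h1 := perp_sub_right W ((hv d hd).symm W) ((perp_fixd_move W h hc hd).symm W)
    rwa [add_sub_cancel_left] at h1
  rw [eq_zero_of_perp_self W this, add_zero]
  exact hc

omit [Finite H] in
theorem mem_move_of_perp (W : IsOdd H V) (h : H) {v : V}
    (hv : ∀ c ∈ fixd V h, Perp H v c) : v ∈ move V h := by
  obtain ⟨c, hc, d, hd, rfl⟩ := exists_fixd_add_move W h v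
  have : Perp H c c := by
    have h1 := perp_sub_right W ((hv c hc).symm W) (perp_fixd_move W h hc hd)
    rwa [add_sub_cancel_right] at h1
  rw [eq_zero_of_perp_self W this, zero_add]
  exact hd

end CfsgLib.BinAffine
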