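import Cfsg.Agent.BinAffine.Plane

/-!
In the plane configuration the elements without fixed points form an abelian subgroup `R` of order
`m + 1` inverted by every maximal element.
-/

set_option autoImplicit false

namespace CfsgLib.BinAffine

variable {V H : Type*} [AddCommGroup V] [Group H] [DistribMulAction H V] [Finite V] [Finite H]
  [FaithfulSMul H V]

theorem IsPlane.card_eq (hb : IsBinary H V) {m : ℕ} (P : IsPlane V H m) {a : H} (ha : IsMax V a) :
    Nat.card H = 2 * (m + 1) ∧ ∀ x : H, ¬ IsMax V x → ∃ j, IsMax V j ∧ x = a * j := by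
  classical
  let f : {j : H // IsMax V j} ⊕ {j : H // IsMax V j} → H := Sum.elim (fun j => j.1) (fun j => a * j.1)
  have hf : Function.Injective f := by
    rintro (x | x) (y | y) e
    · exact congrArg Sum.inl (Subtype.ext e)
    · exact absurd (show IsMax V (a * y.1) from (show x.1 = a * y.1 from e) ▸ x.2)
        (P.mul_not_max hb ha y.2)
    · exact absurd (show IsMax V (a * x.1) from (show a * x.1 = y.1 from e) ▸ y.2)
        (P.mul_not_max hb ha x.2)
    · exact congrArg Sum.inr (Subtype.ext (mul_left_cancel (show a * x.1 = a * y.1 from e)))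
  have hc : Nat.card ({j : H // IsMax V j} ⊕ {j : H // IsMax V j}) = 2 * (m + 1) := by
    rw [Nat.card_sum, P.card_max hb]; ring
  have h1 := Nat.card_le_card_of_injective f hf
  have h2 := P.card_le hb
  have h3 : Nat.card H = 2 * (m + 1) := by omega
  refine ⟨h3, fun x hx => ?_⟩
  have hbij : Function.Bijective f :=
    (Nat.bijective_iff_injective_and_card f).2 ⟨hf, hc.trans h3.symm⟩
  obtain ⟨s | s, hs⟩ := hbij.2 x
  · exact absurd ((show s.1 = x from hs) ▸ s.2) hx
  · exact ⟨s.1, s.2, hs.symm⟩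

theorem IsPlane.exists_max (hb : IsBinary H V) {m : ℕ} (P : IsPlane V H m) :
    ∃ k : H, IsMax V k := by
  obtain ⟨u, -, k, hk, -⟩ := P.stab
  exact ⟨k, hk⟩

theorem IsPlane.max_mul (hb : IsBinary H V) {m : ℕ} (P : IsPlane V H m) {a x : H} (ha : IsMax V a)
    (hx : ¬ IsMax V x) : IsMax V (a * x) := by
  obtain ⟨j, hj, rfl⟩ := (P.card_eq hb ha).2 x hx
  rwa [← mul_assoc, ha.mul_self hb, one_mul]

/-- The rotation subgroup. -/
def rot (hb : IsBinary H V) {m : ℕ} (P : IsPlane V H m) : Subgroup H where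
  carrier := {x | ¬ IsMax V x}
  one_mem' := fun h => h.1 rfl
  mul_mem' := by
    intro x y hx hy
    obtain ⟨k, hk⟩ := P.exists_max hb
    obtain ⟨j, hj, rfl⟩ := (P.card_eq hb hk).2 x hx
    obtain ⟨i, hi, rfl⟩ := (P.card_eq hb hj).2 y hy
    show ¬ IsMax V (k * j * (j * i))
    rw [mul_assoc k j, ← mul_assoc j j, hj.mul_self hb, one_mul]
    exact P.mul_not_max hb hk hi
  inv_mem' := by
    intro x hx
    obtain ⟨k, hk⟩ := P.exists_max hb
    obtain ⟨j, hj, rfl⟩ := (P.card_eq hb hk).2 x hx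
    show ¬ IsMax V (k * j)⁻¹
    rw [mul_inv_rev, hk.inv hb, hj.inv hb]
    exact P.mul_not_max hb hj hk

theorem mem_rot {hb : IsBinary H V} {m : ℕ} {P : IsPlane V H m} {x : H} :
    x ∈ rot hb P ↔ ¬ IsMax V x := Iff.rfl

theorem rot_conj (hb : IsBinary H V) {m : ℕ} (P : IsPlane V H m) {a x : H} (ha : IsMax V a)
    (hx : x ∈ rot hb P) : a * x * a = x⁻¹ := by
  have h := (P.max_mul hb ha hx).mul_self hb
  rw [← mul_assoc] at h
  exact eq_inv_of_mul_eq_one_left h

theorem rot_comm (hb : IsBinary H V) {m : ℕ} (P : IsPlane V H m) {x y : H}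
    (hx : x ∈ rot hb P) (hy : y ∈ rot hb P) : x * y = y * x := by
  obtain ⟨k, hk⟩ := P.exists_max hb
  have h1 := rot_conj hb P hk (mul_mem hx hy)
  have h2 : k * (x * y) * k = (k * x * k) * (k * y * k) := by
    rw [show k * x * k * (k * y * k) = k * x * (k * k) * y * k by group, hk.mul_self hb]
    group
  rw [h2, rot_conj hb P hk hx, rot_conj hb P hk hy, ← mul_inv_rev] at h1
  exact (inv_injective h1).symm

theorem rot_fixd (hb : IsBinary H V) {m : ℕ} (P : IsPlane V H m) {x : H} (hx : x ∈ rot hb P)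
    (x1 : x ≠ 1) : fixd V x = ⊥ := by
  obtain ⟨k, hk⟩ := P.exists_max hb
  obtain ⟨j, hj, rfl⟩ := (P.card_eq hb hk).2 x hx
  exact P.fixd_mul hb hk hj fun e => x1 (e ▸ hk.mul_self hb)

theorem card_rot (hb : IsBinary H V) {m : ℕ} (P : IsPlane V H m) :
    Nat.card (rot hb P) = m + 1 := by
  obtain ⟨k, hk⟩ := P.exists_max hb
  rw [← P.card_max hb]
  refine (Nat.card_congr (Equiv.ofBijective
    (fun j : {j : H // IsMax V j} => (⟨k * j.1, P.mul_not_max hb hk j.2⟩ : rot hb P)) ⟨?_, ?_⟩)).symm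
  · intro a b e
    exact Subtype.ext (mul_left_cancel (congrArg Subtype.val e))
  · rintro ⟨x, hx⟩
    obtain ⟨j, hj, rfl⟩ := (P.card_eq hb hk).2 x hx
    exact ⟨⟨j, hj⟩, rfl⟩

/-- No subgroup of `V` other than the obvious ones is invariant under the rotations. -/
theorem rot_irred (hb : IsBinary H V) (hi : IsIrred H V) {m : ℕ} (P : IsPlane V H m)
    {M : AddSubgroup V} (hM : ∀ x ∈ rot hb P, ∀ v ∈ M, x • v ∈ M) : M = ⊥ ∨ M = ⊤ := by
  by_contra hcon
  rw [not_or] at hcon
  obtain ⟨k, hk⟩ := P.exists_max hb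
  let kM : AddSubgroup V := M.map (DistribMulAction.toAddMonoidHom V k)
  have mem_kM : ∀ v : V, v ∈ kM ↔ k • v ∈ M := by
    intro v
    constructor
    · rintro ⟨w, hw, rfl⟩
      show k • k • w ∈ M
      rwa [hk.smul_smul_self hb]
    · intro h
      exact ⟨k • v, h, hk.smul_smul_self hb v⟩
  have hkM : ∀ x ∈ rot hb P, ∀ v ∈ kM, x • v ∈ kM := by
    intro x hx v hv
    rw [mem_kM] at hv ⊢
    have e : k * x = x⁻¹ * k := by
      rw [← rot_conj hb P hk hx, mul_assoc, hk.mul_self hb, mul_one]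
    rw [← mul_smul, e, mul_smul]
    exact hM _ (inv_mem hx) _ hv
  have hinv : ∀ N : AddSubgroup V, (∀ x ∈ rot hb P, ∀ v ∈ N, x • v ∈ N) → (∀ v ∈ N, k • v ∈ N) →
      N = ⊥ ∨ N = ⊤ := by
    intro N h1 h2
    refine hi N fun h v hv => ?_
    by_cases hh : IsMax V h
    · have hx : k * h ∈ rot hb P := P.mul_not_max hb hk hh
      have := h2 _ (h1 _ hx v hv)
      rwa [← mul_smul, ← mul_assoc, hk.mul_self hb, one_mul] at this
    · exact h1 h hh v hv
  have h1 : M ⊓ kM = ⊥ := by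
    rcases hinv (M ⊓ kM) (fun x hx v hv => ⟨hM x hx v hv.1, hkM x hx v hv.2⟩)
      (fun v hv => ⟨(mem_kM v).1 hv.2, (mem_kM _).2 (by rw [hk.smul_smul_self hb]; exact hv.1)⟩)
      with h | h
    · exact h
    · exact absurd (eq_top_iff.2 (h ▸ inf_le_left)) hcon.2
  have h2 : M ⊔ kM = ⊤ := by
    have hA : ∀ x ∈ rot hb P, ∀ v ∈ M ⊔ kM, x • v ∈ M ⊔ kM := by
      intro x hx v hv
      obtain ⟨a, ha, b, hb', rfl⟩ := AddSubgroup.mem_sup.1 hv
      rw [smul_add]
      exact add_mem (AddSubgroup.mem_sup_left (hM x hx a ha))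
        (AddSubgroup.mem_sup_right (hkM x hx b hb'))
    have hB : ∀ v ∈ M ⊔ kM, k • v ∈ M ⊔ kM := by
      intro v hv
      obtain ⟨a, ha, b, hb', rfl⟩ := AddSubgroup.mem_sup.1 hv
      rw [smul_add]
      refine add_mem (AddSubgroup.mem_sup_right ((mem_kM _).2 ?_))
        (AddSubgroup.mem_sup_left ((mem_kM b).1 hb'))
      rwa [hk.smul_smul_self hb]
    rcases hinv (M ⊔ kM) hA hB with h | h
    · exact absurd (eq_bot_iff.2 (h ▸ le_sup_left)) hcon.1
    · exact h
  have hcard : Nat.card M * Nat.card kM = m * m := by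
    rw [← P.cardV, ← Nat.card_prod]
    refine Nat.card_congr (Equiv.ofBijective (fun x : M × kM => (x.1 : V) + x.2) ⟨?_, ?_⟩)
    · intro x y e
      have e2 : (x.1 : V) - y.1 = y.2 - x.2 := by
        rw [sub_eq_sub_iff_add_eq_add]; simpa [add_comm] using e
      have h0' : (x.1 : V) - y.1 ∈ kM := e2 ▸ sub_mem y.2.2 x.2.2
      have h0 : (x.1 : V) - y.1 ∈ M ⊓ kM := ⟨M.sub_mem x.1.2 y.1.2, h0'⟩
      rw [h1, AddSubgroup.mem_bot] at h0
      have a := sub_eq_zero.1 h0
      rw [e2, sub_eq_zero] at h0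
      exact Prod.ext (Subtype.ext a) (Subtype.ext h0.symm)
    · intro v
      have : v ∈ M ⊔ kM := h2 ▸ AddSubgroup.mem_top v
      obtain ⟨a, ha, b, hb', e⟩ := AddSubgroup.mem_sup.1 this
      exact ⟨(⟨a, ha⟩, ⟨b, hb'⟩), e⟩
  have hk2 : Nat.card kM = Nat.card M := by
    refine Nat.card_congr ⟨fun v => ⟨k • (v : V), (mem_kM _).1 v.2⟩,
      fun v => ⟨k • (v : V), (mem_kM _).2 (by rw [hk.smul_smul_self hb]; exact v.2)⟩, ?_, ?_⟩ <;>
    · intro v; exact Subtype.ext (hk.smul_smul_self hb _)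
  rw [hk2] at hcard
  have hMm : Nat.card M = m := Nat.mul_self_inj.1 hcard
  obtain ⟨⟨v, hv⟩, hne⟩ := AddSubgroup.ne_bot_iff_exists_ne_zero.1 hcon.1
  have hv0 : v ≠ 0 := fun e => hne (Subtype.ext e)
  let g : Option (rot hb P) → M := fun o => o.elim ⟨0, zero_mem M⟩ fun x => ⟨(x : H) • v, hM _ x.2 v hv⟩
  have hg : Function.Injective g := by
    rintro (_ | x) (_ | y) e
    · rfl
    · exact absurd (smul_eq_zero_iff_eq _ |>.1 (congrArg Subtype.val e).symm) hv0
    · exact absurd (smul_eq_zero_iff_eq _ |>.1 (congrArg Subtype.val e)) hv0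
    · have e' : (x : H) • v = (y : H) • v := congrArg Subtype.val e
      by_contra hne'
      have hx1 : (y : H)⁻¹ * x ≠ 1 := fun e1 => hne' (congrArg some (Subtype.ext (inv_mul_eq_one.1 e1).symm))
      have := rot_fixd hb P (mul_mem (inv_mem y.2) x.2) hx1
      have hv' : v ∈ fixd V ((y : H)⁻¹ * x) := by rw [mem_fixd, mul_smul, e', inv_smul_smul]
      rw [this, AddSubgroup.mem_bot] at hv'
      exact hv0 hv'
  have := Nat.card_le_card_of_injective g hg
  rw [hMm, Finite.card_option, card_rot hb P] at this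
  omega

end CfsgLib.BinAffine
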