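import Cfsg.Agent.BinAffine.Plane

/-!
Binary linear groups in characteristic two.
-/

set_option autoImplicit false

open scoped Pointwise

namespace CfsgLib.BinAffine

variable {V H : Type*} [AddCommGroup V] [Group H] [DistribMulAction H V] [Finite V] [Finite H]
  [FaithfulSMul H V]

theorem neg_self (h2 : ∀ v : V, v + v = 0) (v : V) : -v = v := neg_eq_of_add_eq_zero_left (h2 v)

theorem move_le_self (hb : IsBinary H V) (h2 : ∀ v : V, v + v = 0) {k : H} (hk : IsMax V k) :
    move V k ≤ fixd V k := fun d hd => by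
  rw [mem_fixd, hk.smul_move hb hd, neg_self h2]

theorem smul_eq_of_commute (hb : IsBinary H V) (h2 : ∀ v : V, v + v = 0) {k : H} (hk : IsMax V k)
    {h : H} (hc : Commute h k) {e : V} (he : e ∈ move V k) : h • e = e := by
  rcases hk.smul_eq_or hb hc he with h1 | h1
  · exact h1
  · rw [h1, neg_self h2]

theorem disjoint_two (hb : IsBinary H V) (h2 : ∀ v : V, v + v = 0) {k k' : H} (hk : IsMax V k)
    (hk' : IsMax V k') (hnc : ¬ Commute k k') :
    ∀ v ∈ movePair V k k', v ∈ fixdPair V k k' → v = 0 := by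
  intro v hv hT
  obtain ⟨a, ha, b, hb', rfl⟩ := AddSubgroup.mem_sup.1 hv
  have h1 : b ∈ fixd V k := by
    have := (fixd V k).sub_mem hT.1 (move_le_self hb h2 hk ha)
    rwa [add_sub_cancel_left] at this
  obtain rfl := hk'.inter_fixd_eq hb hnc hb' h1
  rw [add_zero] at hT ⊢
  exact hk.inter_fixd_eq hb (fun h => hnc h.symm) ha hT.2

omit [Finite V] [FaithfulSMul H V] [Finite H] in
theorem fixd_le_of_mem_fixer {T : AddSubgroup V} {g : H} (hg : g ∈ fixer H (T : Set V)) :
    T ≤ fixd V g := fun t ht => hg t ht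

/-- A noncommuting pair generates a dihedral group of twice odd order. -/
theorem odd_orderOf (hb : IsBinary H V) (h2 : ∀ v : V, v + v = 0) {k k' : H} (hk : IsMax V k)
    (hk' : IsMax V k') (hnc : ¬ Commute k k') : Odd (orderOf (k * k')) := by
  have hne : k ≠ k' := fun e => hnc (e ▸ Commute.refl k)
  rw [← Nat.not_even_iff_odd]
  rintro ⟨n, hn⟩
  have hpos := orderOf_pos (k * k')
  set z := (k * k') ^ n with hz
  have zz : z * z = 1 := by rw [hz, ← pow_add, ← hn, pow_orderOf_eq_one]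
  have zinv : z⁻¹ = z := inv_eq_of_mul_eq_one_left zz
  have hkz : k * z * k = z := by
    have e : k * (k * k') * k = (k * k')⁻¹ := by
      rw [mul_inv_rev, hk.inv hb, hk'.inv hb, ← mul_assoc, hk.mul_self hb, one_mul]
    have e2 : k * z * k = (k * (k * k') * k) ^ n := by
      rw [hz]
      have := (conj_pow (i := n) (a := k) (b := k * k')).symm
      rw [hk.inv hb] at this
      exact this
    rw [e2, e, inv_pow, ← hz, zinv]
  have hc : Commute z k := by
    calc z * k = k * z * k * k := by rw [hkz]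
      _ = k * z := by rw [mul_assoc (k * z), hk.mul_self hb, mul_one]
  have hc' : Commute z k' := by
    have h1 : Commute z (k * k') := (Commute.refl (k * k')).pow_left n
    have := hc.mul_right h1
    rwa [← mul_assoc, hk.mul_self hb, one_mul] at this
  have z1 : z = 1 := by
    refine eq_one_of_fixd (V := V) fun v => ?_
    obtain ⟨p, hp, t, ht, rfl⟩ := exists_decomp hb hk hk' hne (disjoint_two hb h2 hk hk' hnc) v
    obtain ⟨a, ha, b, hb', rfl⟩ := AddSubgroup.mem_sup.1 hp
    have hzt : z • t = t := fixd_le_pow (k * k') n (fixd_inf_le_mul k k' ht)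
    rw [smul_add, smul_add, smul_eq_of_commute hb h2 hk hc ha, smul_eq_of_commute hb h2 hk' hc' hb',
      hzt]
  have hn0 : 0 < n := by omega
  have := Nat.le_of_dvd hn0 (orderOf_dvd_of_pow_eq_one z1)
  omega

/-- A noncommuting pair is conjugate by an element fixing their common fixed vectors. -/
theorem exists_conj_fix (hb : IsBinary H V) (h2 : ∀ v : V, v + v = 0) {k k' : H} (hk : IsMax V k)
    (hk' : IsMax V k') (hnc : ¬ Commute k k') :
    ∃ g ∈ fixer H (fixdPair V k k' : Set V), g * k * g⁻¹ = k' := by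
  obtain ⟨j, hj⟩ := odd_orderOf hb h2 hk hk' hnc
  refine ⟨(k * k') ^ j, fun t ht => fixd_le_pow (k * k') j (fixd_inf_le_mul k k' ht), ?_⟩
  have e : k * (k * k')⁻¹ * k = k * k' := by
    rw [mul_inv_rev, hk.inv hb, hk'.inv hb, mul_assoc, mul_assoc, hk.mul_self hb, mul_one]
  have e2 : k * ((k * k') ^ j)⁻¹ * k = (k * k') ^ j := by
    rw [← inv_pow]
    have := (conj_pow (i := j) (a := k) (b := (k * k')⁻¹)).symm
    rw [hk.inv hb] at this
    rw [this, e]
  have e3 : (k * k') ^ j * k * ((k * k') ^ j)⁻¹ = (k * k') ^ (2 * j) * k := by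
    calc (k * k') ^ j * k * ((k * k') ^ j)⁻¹
        = (k * k') ^ j * (k * ((k * k') ^ j)⁻¹ * k) * k⁻¹ := by group
      _ = (k * k') ^ (2 * j) * k := by rw [e2, hk.inv hb, two_mul, pow_add]
  rw [e3]
  have h1 : (k * k') ^ (2 * j) * (k * k') = 1 := by
    rw [← pow_succ, ← hj, pow_orderOf_eq_one]
  rw [eq_inv_of_mul_eq_one_left h1, mul_inv_rev, hk.inv hb, hk'.inv hb, mul_assoc,
    hk.mul_self hb, mul_one]

theorem exists_noncommute_conj (hb : IsBinary H V) (hi : IsIrred H V) (h2 : ∀ v : V, v + v = 0)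
    {k : H} (hk : IsMax V k) : ∃ g : H, ¬ Commute k (g * k * g⁻¹) := by
  by_contra hcon
  simp only [not_exists, not_not] at hcon
  refine fixd_ne_top (V := V) hk.1 (span_conj_move hi hk fun g => ?_)
  by_cases he : g * k * g⁻¹ = k
  · rw [he]; exact move_le_self hb h2 hk
  · exact (hk.conj g).move_le_fixd_of_commute hb hk he (hcon g).symm

theorem fixd_inj (hb : IsBinary H V) (hi : IsIrred H V) (h2 : ∀ v : V, v + v = 0)
    {k k' : H} (hk : IsMax V k) (hk' : IsMax V k') (hC : fixd V k' = fixd V k) : k' = k := by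
  by_contra hne
  obtain ⟨g₀, hg₀⟩ := exists_noncommute_conj hb hi h2 hk
  set k1 := g₀ * k * g₀⁻¹ with hk1def
  have hk1 : IsMax V k1 := hk.conj g₀
  have hnc' : ∀ j : H, IsMax V j → fixd V j = fixd V k → ¬ Commute j k1 := by
    intro j hj hjC hcom
    by_cases hjk : j = k1
    · subst hjk
      obtain ⟨d, hd, hdm⟩ := hk1.move_ne_bot
      exact hg₀ ((hk1.commute_of_mem hb hd hdm (hjC ▸ move_le_self hb h2 hk1 hdm)))
    · obtain ⟨d, hd, hdm⟩ := hk1.move_ne_bot
      refine hg₀ (hk1.commute_of_mem hb hd hdm ?_)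
      have := hk1.move_le_fixd_of_commute hb hj (Ne.symm hjk) hcom.symm hdm
      rwa [hjC] at this
  obtain ⟨g1, hg1T, hg1⟩ := exists_conj_fix hb h2 hk hk1 hg₀
  obtain ⟨g2, hg2T, hg2⟩ := exists_conj_fix hb h2 hk' hk1 (hnc' k' hk' hC)
  have hTT : fixdPair V k' k1 = fixdPair V k k1 := by unfold fixdPair; rw [hC]
  rw [hTT] at hg2T
  set g := g2⁻¹ * g1
  have hgT : ∀ t ∈ fixdPair V k k1, g • t = t := fun t ht => mul_mem (inv_mem hg2T) hg1T t ht
  have hgk : g * k * g⁻¹ = k' := by
    show g2⁻¹ * g1 * k * (g2⁻¹ * g1)⁻¹ = k'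
    calc g2⁻¹ * g1 * k * (g2⁻¹ * g1)⁻¹ = g2⁻¹ * (g1 * k * g1⁻¹) * g2 := by group
      _ = g2⁻¹ * (g2 * k' * g2⁻¹) * g2 := by rw [hg1, hg2]
      _ = k' := by group
  obtain ⟨e, he0, he⟩ := hk.move_ne_bot
  have he' : g • e ∈ move V k' := by rw [← hgk, move_conj, inv_smul_smul]; exact he
  have hge0 : g • e ≠ 0 := fun h => he0 ((smul_eq_zero_iff_eq g).1 h)
  have hee : g • e ≠ e := fun h => hne (hk.unique hb hk' he0 he (h ▸ he')).symm
  have heT : e ∉ fixdPair V k k1 := fun h => he0 (hk.inter_fixd_eq hb (fun h' => hg₀ h'.symm) he h.2)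
  have heT' : g • e ∉ fixdPair V k k1 := fun h =>
    hge0 (hk'.inter_fixd_eq hb (fun h' => hnc' k' hk' hC h'.symm) he' h.2)
  classical
  let f : V → V := fun u => if u = e then g • e else if u = g • e then e else u
  have fe : f e = g • e := if_pos rfl
  have fge : f (g • e) = e := by simp [f, hee]
  have ft : ∀ t ∈ fixdPair V k k1, f t = t := by
    intro t ht
    have h1 : t ≠ e := fun h => heT (h ▸ ht)
    have h3 : t ≠ g • e := fun h => heT' (h ▸ ht)
    simp [f, h1, h3]
  have hneg : ∀ a b : V, a - b = b - a := fun a b => by rw [← neg_sub, neg_self h2]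
  have hginv : ∀ t ∈ fixdPair V k k1, g⁻¹ • t = t := fun t ht =>
    inv_smul_eq_iff.2 (hgT t ht).symm
  obtain ⟨h, hh⟩ := hb (insert e (insert (g • e) (fixdPair V k k1 : Set V))) f
    (by
      rintro u (rfl | rfl | hu)
      · exact ⟨g, fe.symm⟩
      · exact ⟨g⁻¹, by rw [fge, inv_smul_smul]⟩
      · exact ⟨1, by rw [one_smul, ft u hu]⟩)
    (by
      rintro u (rfl | rfl | hu) v (rfl | rfl | hv)
      · exact ⟨1, by rw [one_smul, sub_self, sub_self]⟩
      · exact ⟨1, by rw [one_smul, fe, fge]; exact hneg _ _⟩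
      · exact ⟨g, by rw [fe, ft v hv, smul_sub, hgT v hv]⟩
      · exact ⟨1, by rw [one_smul, fe, fge]; exact hneg _ _⟩
      · exact ⟨1, by rw [one_smul, sub_self, sub_self]⟩
      · exact ⟨g⁻¹, by rw [fge, ft v hv, smul_sub, inv_smul_smul, hginv v hv]⟩
      · exact ⟨g, by rw [fe, ft u hu, smul_sub, hgT u hu]⟩
      · exact ⟨g⁻¹, by rw [fge, ft u hu, smul_sub, inv_smul_smul, hginv u hu]⟩
      · exact ⟨1, by rw [one_smul, ft u hu, ft v hv]⟩)
  have hhe : h • e = g • e := (hh e (by simp)).trans fe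
  have hhge : h • (g • e) = e := (hh (g • e) (by simp)).trans fge
  have hhT : ∀ t ∈ fixdPair V k k1, h • t = t := fun t ht =>
    (hh t (by simp [ht])).trans (ft t ht)
  have c1 : h * k * h⁻¹ = k' :=
    (hk.conj h).unique hb hk' hge0 (by rw [move_conj, ← hhe, inv_smul_smul]; exact he) he'
  have c2 : h * k' * h⁻¹ = k :=
    (hk'.conj h).unique hb hk he0 (by
      rw [move_conj]
      rw [show h⁻¹ • e = g • e from inv_smul_eq_iff.2 hhge.symm]
      exact he') he
  have hkc : Commute k k' := by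
    have : k' • e = e := by
      have := move_le_self hb h2 hk he
      rwa [← hC] at this
    exact (hk.commute_of_mem hb he0 he this).symm
  have h3ne : k * k' ≠ 1 := fun h => hne (by
    rw [← hk.inv hb]; exact eq_inv_of_mul_eq_one_right h)
  obtain ⟨hk3, hC3⟩ := hk.of_le h3ne (fun c hc => fixd_inf_le_mul k k' ⟨hc, hC.symm ▸ hc⟩)
  have hnc3 := hnc' _ hk3 hC3
  have hcm : Commute h (k * k') := by
    have : h * (k * k') * h⁻¹ = k * k' := by
      calc h * (k * k') * h⁻¹ = (h * k * h⁻¹) * (h * k' * h⁻¹) := by group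
        _ = k' * k := by rw [c1, c2]
        _ = k * k' := hkc.symm
    exact mul_inv_eq_iff_eq_mul.1 this
  have hfix3 : ∀ x ∈ move V (k * k'), h • x = x := fun x hx =>
    smul_eq_of_commute hb h2 hk3 hcm hx
  -- `C = T + E3`
  have hsurj : ∀ c ∈ fixd V k, h • c = c := by
    let ω : move V (k * k') × fixdPair V k k1 → fixd V k := fun x =>
      ⟨(x.1 : V) + x.2, add_mem (hC3 ▸ move_le_self hb h2 hk3 x.1.2) x.2.2.1⟩
    have hω : Function.Injective ω := by
      intro x y hxy
      have e1 : (x.1 : V) + x.2 = y.1 + y.2 := congrArg Subtype.val hxy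
      have e2 : (x.1 : V) - y.1 = y.2 - x.2 := by rw [sub_eq_sub_iff_add_eq_add, e1]; abel
      have h4 : (x.1 : V) - y.1 ∈ fixdPair V k k1 :=
        e2 ▸ (fixdPair V k k1).sub_mem y.2.2 x.2.2
      have h0 := hk3.inter_fixd_eq hb (fun h' => hnc3 h'.symm) (sub_mem x.1.2 y.1.2) h4.2
      have a := sub_eq_zero.1 h0
      rw [e2, sub_eq_zero] at h0
      exact Prod.ext (Subtype.ext a) (Subtype.ext h0.symm)
    have hcard : Nat.card (move V (k * k') × fixdPair V k k1) = Nat.card (fixd V k) := by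
      have d1 := card_decomp hb hk hk1 (fun h => hg₀ (h ▸ Commute.refl k))
        (disjoint_two hb h2 hk hk1 hg₀)
      rw [hk.card_movePair hb hk1 (fun h => hg₀ (h ▸ Commute.refl k))] at d1
      have d2 := card_fixd_mul_card_move (V := V) k
      have d3 := hk.card_move_eq hb hk1 hg₀
      have d4 := hk3.card_move_eq hb hk1 hnc3
      rw [Nat.card_prod]
      have hpos : 0 < Nat.card (move V k) := Nat.card_pos
      apply Nat.eq_of_mul_eq_mul_right hpos
      rw [d2, ← d1, d4, d3]; ring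
    intro c hc
    obtain ⟨x, hx⟩ := ((Nat.bijective_iff_injective_and_card ω).2 ⟨hω, hcard⟩).2 ⟨c, hc⟩
    have e1 : (x.1 : V) + x.2 = c := congrArg Subtype.val hx
    rw [← e1, smul_add, hfix3 _ x.1.2, hhT _ x.2.2]
  exact hee (hhe.symm.trans (hsurj e (move_le_self hb h2 hk he)))

/-- Distinct conjugates of a maximal element do not commute. -/
theorem not_commute_conj (hb : IsBinary H V) (hi : IsIrred H V) (h2 : ∀ v : V, v + v = 0)
    {k k' : H} (hk : IsMax V k) (hk' : IsMax V k') {h : H} (hh : h * k * h⁻¹ = k') (hne : k ≠ k') :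
    ¬ Commute k k' := by
  intro hc
  have hEC' := hk.move_le_fixd_of_commute hb hk' hne hc
  have hE'C := hk'.move_le_fixd_of_commute hb hk (Ne.symm hne) hc.symm
  -- a vector translated by corresponding vectors
  let χ : V →+ V := (DistribMulAction.toAddMonoidHom V h).comp (delta V k) - delta V k'
  have hχ : ∀ u, χ u = h • (k • u - u) - (k' • u - u) := fun u => rfl
  have hex : ∃ u ∈ χ.ker, u ∉ fixdPair V k k' := by
    by_contra hcon
    simp only [not_exists, not_and, not_not] at hcon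
    have hE' : χ.range ≤ move V k' := by
      rintro _ ⟨u, rfl⟩
      rw [hχ]
      refine sub_mem ?_ (smul_sub_mem_move k' u)
      rw [← hh, move_conj, inv_smul_smul]
      exact smul_sub_mem_move k u
    have h1 : Nat.card χ.range ≤ Nat.card (move V k') := AddSubgroup.card_le_of_le hE'
    have h3 : Nat.card χ.ker ≤ Nat.card (fixdPair V k k') := AddSubgroup.card_le_of_le hcon
    have h4 : Nat.card χ.ker * Nat.card χ.range = Nat.card V := by
      rw [mul_comm, AddSubgroup.card_eq_card_quotient_mul_card_addSubgroup χ.ker]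
      congr 1
      exact (Nat.card_congr (QuotientAddGroup.quotientKerEquivRange χ).toEquiv).symm
    have h5 := card_fixd_mul_card_move (V := V) k'
    have hpos : 0 < Nat.card (move V k') := Nat.card_pos
    have h6 : Nat.card (fixd V k') ≤ Nat.card (fixdPair V k k') := by
      refine Nat.le_of_mul_le_mul_right ?_ hpos
      rw [h5, ← h4]
      exact Nat.mul_le_mul h3 h1
    have h7 : fixdPair V k k' = fixd V k' := AddSubgroup.eq_of_le_of_card_ge inf_le_right h6
    have h8 : fixd V k' ≤ fixd V k := h7 ▸ inf_le_left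
    exact hne (fixd_inj hb hi h2 hk' hk (le_antisymm (hk'.2 k hk.1 h8) h8))
  obtain ⟨u, hu, hu'⟩ := hex
  rw [AddMonoidHom.mem_ker, hχ, sub_eq_zero] at hu
  set e := k • u - u with he
  have hem : e ∈ move V k := smul_sub_mem_move k u
  have he0 : e ≠ 0 := by
    intro e0
    rw [e0, smul_zero] at hu
    exact hu' ⟨sub_eq_zero.1 e0, sub_eq_zero.1 hu.symm⟩
  have hhe : h • e ∈ move V k' := hu ▸ smul_sub_mem_move k' u
  set d := h • e + e with hd
  have hd0 : d ≠ 0 := by
    intro d0
    have : h • e = e := by rw [eq_neg_of_add_eq_zero_left d0, neg_self h2]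
    exact he0 (hk.disjoint hb hk' hne hem (this ▸ hhe))
  have hkk : d ∈ move V (k * k') := by
    refine mem_move.2 ⟨u, ?_⟩
    have e1 : k • u = u + e := by rw [he]; abel
    have e2 : k' • u = u + h • e := by rw [hu]; abel
    rw [mul_smul, e2, smul_add, e1, mem_fixd.1 (hE'C hhe), hd]; abel
  obtain ⟨g, hg, hle, -⟩ := exists_shift hb d
  have h1 : g • e = e := hle _ hkk (fixd_inf_le_mul k k' ⟨move_le_self hb h2 hk hem, hEC' hem⟩)
  have h3 : g • e = e + d := hg e ⟨h, by
    rw [hd, add_comm (h • e) e, ← add_assoc, h2, zero_add]⟩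
  rw [h1] at h3
  exact hd0 (left_eq_add.1 h3)

/-- The elements of two-power order of the pointwise stabiliser of `T`. -/
theorem two_elem_fixer (hb : IsBinary H V) (hi : IsIrred H V) (h2 : ∀ v : V, v + v = 0) {k k1 : H}
    (hk : IsMax V k) (hk1 : IsMax V k1) (hnc : ¬ Commute k k1) :
    ∃ S : Sylow 2 (fixer H (fixdPair V k k1 : Set V)),
      ∀ s : fixer H (fixdPair V k k1 : Set V),
        s ∈ (S : Subgroup (fixer H (fixdPair V k k1 : Set V))) → (s : H) = 1 ∨ (s : H) = k := by
  haveI : Fact (Nat.Prime 2) := ⟨Nat.prime_two⟩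
  have hkK : k ∈ (fixer H (fixdPair V k k1 : Set V)) := fun t ht => ht.1
  let k₀ : (fixer H (fixdPair V k k1 : Set V)) := ⟨k, hkK⟩
  have hp : IsPGroup 2 (Subgroup.zpowers k₀) := by
    refine IsPGroup.of_card (n := 1) ?_
    rw [Nat.card_zpowers, pow_one]
    refine orderOf_eq_prime ?_ (fun e => hk.1 (congrArg Subtype.val e))
    exact Subtype.ext (by simpa [sq] using hk.mul_self hb)
  obtain ⟨S, hS⟩ := hp.exists_le_sylow
  refine ⟨S, fun s hs => ?_⟩
  have hk0S : k₀ ∈ (S : Subgroup (fixer H (fixdPair V k k1 : Set V))) := hS (Subgroup.mem_zpowers k₀)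
  have hne1 : k ≠ k1 := fun e => hnc (e ▸ Commute.refl k)
  have hc : Commute (s : H) k := by
    set k' := (s : H) * k * (s : H)⁻¹ with hk'
    by_cases hne : k = k'
    · exact mul_inv_eq_iff_eq_mul.1 hne.symm
    exfalso
    have hodd := odd_orderOf hb h2 hk (hk.conj _) (not_commute_conj hb hi h2 hk (hk.conj _) rfl hne)
    have hmem : k₀ * (s * k₀ * s⁻¹) ∈ (S : Subgroup (fixer H (fixdPair V k k1 : Set V))) :=
      mul_mem hk0S (mul_mem (mul_mem hs hk0S) (inv_mem hs))
    obtain ⟨n, hn⟩ := IsPGroup.iff_orderOf.1 S.isPGroup' ⟨_, hmem⟩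
    rw [← Subgroup.orderOf_coe, ← Subgroup.orderOf_coe] at hn
    have hn' : orderOf (k * k') = 2 ^ n := hn
    rw [hn'] at hodd
    rcases Nat.eq_zero_or_pos n with rfl | hnpos
    · rw [pow_zero, orderOf_eq_one_iff] at hn'
      exact hne (by
        have := eq_inv_of_mul_eq_one_left hn'
        rwa [(hk.conj (s : H)).inv hb] at this)
    · exact (Nat.not_even_iff_odd.2 hodd) ((even_two.pow_of_ne_zero (by omega)))
  by_cases hs1 : (s : H) = 1
  · exact .inl hs1
  right
  have hC : fixd V k ≤ fixd V (s : H) := by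
    intro c hc'
    obtain ⟨p, hp', t, ht, rfl⟩ :=
      exists_decomp hb hk hk1 hne1 (disjoint_two hb h2 hk hk1 hnc) c
    obtain ⟨a, ha, b, hb', rfl⟩ := AddSubgroup.mem_sup.1 hp'
    have hbC : b ∈ fixd V k := by
      have := (fixd V k).sub_mem ((fixd V k).sub_mem hc' ht.1) (move_le_self hb h2 hk ha)
      rwa [add_sub_cancel_right, add_sub_cancel_left] at this
    obtain rfl := hk1.inter_fixd_eq hb hnc hb' hbC
    rw [add_zero, mem_fixd, smul_add, smul_eq_of_commute hb h2 hk hc ha, s.2 t ht]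
  obtain ⟨hsm, hsC⟩ := hk.of_le hs1 hC
  exact fixd_inj hb hi h2 hk hsm hsC

/-- A vector of the plane of a noncommuting pair lies in a point inside it. -/
theorem line_two (hb : IsBinary H V) (hi : IsIrred H V) (h2 : ∀ v : V, v + v = 0) {k k1 : H}
    (hk : IsMax V k) (hk1 : IsMax V k1) (hnc : ¬ Commute k k1) {d : V} (hd0 : d ≠ 0)
    (hd : d ∈ movePair V k k1) :
    ∃ g : H, d ∈ move V (g * k * g⁻¹) ∧ move V (g * k * g⁻¹) ≤ movePair V k k1 := by
  have hne1 : k ≠ k1 := fun e => hnc (e ▸ Commute.refl k)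
  have hdis := disjoint_two hb h2 hk hk1 hnc
  haveI : Fact (Nat.Prime 2) := ⟨Nat.prime_two⟩
  obtain ⟨S, hS⟩ := two_elem_fixer hb hi h2 hk hk1 hnc
  -- the normal complement
  have hScen : Subgroup.normalizer ((S : Subgroup (fixer H (fixdPair V k k1 : Set V))) : Set (fixer H (fixdPair V k k1 : Set V))) ≤
      Subgroup.centralizer ((S : Subgroup (fixer H (fixdPair V k k1 : Set V))) : Set (fixer H (fixdPair V k k1 : Set V))) := by
    intro x hx
    rw [Subgroup.mem_centralizer_iff]
    intro y hy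
    have hy' : x * y * x⁻¹ ∈ (S : Subgroup (fixer H (fixdPair V k k1 : Set V))) := (Subgroup.mem_normalizer_iff.1 hx y).1 hy
    rcases hS y hy with h1 | h1
    · rw [show y = 1 from Subtype.ext h1, one_mul, mul_one]
    · rcases hS _ hy' with h3 | h3
      · exfalso
        have : y = 1 := conj_eq_one_iff.1 (Subtype.ext h3)
        exact hk.1 (h1 ▸ congrArg Subtype.val this)
      · have : x * y * x⁻¹ = y := Subtype.ext (h3.trans h1.symm)
        exact (mul_inv_eq_iff_eq_mul.1 this).symm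
  set R := (MonoidHom.transferSylow S hScen).ker
  have hRodd : ¬ 2 ∣ Nat.card R := MonoidHom.not_dvd_card_ker_transferSylow S hScen
  have hRmem : ∀ x : (fixer H (fixdPair V k k1 : Set V)), Odd (orderOf x) → x ∈ R := by
    intro x hx
    rw [MonoidHom.mem_ker]
    obtain ⟨n, hn⟩ := IsPGroup.iff_orderOf.1 S.isPGroup' (MonoidHom.transferSylow S hScen x)
    have hdvd := orderOf_map_dvd (MonoidHom.transferSylow S hScen) x
    rw [hn] at hdvd
    have hco : Nat.Coprime (2 ^ n) (orderOf x) := (Nat.coprime_two_left.2 hx).pow_left n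
    rw [← orderOf_eq_one_iff, hn]
    exact Nat.eq_one_of_dvd_coprimes hco (dvd_refl _) hdvd
  let r : (fixer H (fixdPair V k k1 : Set V)) := ⟨k * k1, fun t ht => fixd_inf_le_mul k k1 ht⟩
  have hrR : r ∈ R := hRmem r (by
    rw [← Subgroup.orderOf_coe]; exact odd_orderOf hb h2 hk hk1 hnc)
  haveI : Fintype R := Fintype.ofFinite R
  -- the averaging map
  let av : V → V := fun v => ∑ x : R, ((x : (fixer H (fixdPair V k k1 : Set V))) : H) • v
  have av_add : ∀ a b, av (a + b) = av a + av b := fun a b => by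
    simp only [av, smul_add, Finset.sum_add_distrib]
  have av_T : ∀ t ∈ (fixdPair V k k1), av t = t := by
    intro t ht
    have : av t = Nat.card R • t := by
      simp only [av, Nat.card_eq_fintype_card]
      rw [← Finset.card_univ]
      exact Finset.sum_eq_card_nsmul (fun (x : R) _ =>
        (x : (fixer H (fixdPair V k k1 : Set V))).2 t ht)
    rw [this]
    obtain ⟨i, hi'⟩ : Odd (Nat.card R) := by rw [Nat.odd_iff]; omega
    rw [hi', add_nsmul, one_nsmul, mul_comm, mul_nsmul', two_nsmul, h2, nsmul_zero, zero_add]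
  have av_right : ∀ (y : R) v, av (((y : (fixer H (fixdPair V k k1 : Set V))) : H) • v) = av v := by
    intro y v
    refine Fintype.sum_equiv (Equiv.mulRight y) _ _ fun x => ?_
    rw [← mul_smul]; rfl
  have av_P : ∀ p ∈ (movePair V k k1), av p = 0 := by
    intro p hp
    obtain ⟨u, -, hu⟩ := mul_delta_surj hb hk hk1 hne1 hdis hp
    have e1 : av ((k * k1) • u) = av u := av_right ⟨r, hrR⟩ u
    rw [hu, av_add] at e1
    exact add_eq_left.1 e1
  have av_mem : ∀ v, av v ∈ (fixdPair V k k1) := by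
    intro v
    show av v ∈ fixdPair V k k1
    rw [← hk.fixd_mul hb hk1 hne1, mem_fixd]
    simp only [av, Finset.smul_sum]
    refine Fintype.sum_equiv (Equiv.mulLeft (⟨r, hrR⟩ : R)) _ _ fun x => ?_
    rw [← mul_smul]; rfl
  have av_conj : ∀ (g : (fixer H (fixdPair V k k1 : Set V))) v, av ((g : H) • v) = av v := by
    intro g v
    have h1 : av ((g : H) • v) = (g : H) • av v := by
      simp only [av, Finset.smul_sum]
      haveI : R.Normal := MonoidHom.normal_ker _
      refine Fintype.sum_equiv (MulAut.conjNormal g⁻¹).toEquiv _ _ fun x => ?_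
      rw [← mul_smul, ← mul_smul]
      congr 1
      show ((x : (fixer H (fixdPair V k k1 : Set V))) : H) * g = g * ((MulAut.conjNormal g⁻¹ x : R) : (fixer H (fixdPair V k k1 : Set V)))
      rw [MulAut.conjNormal_apply, inv_inv]
      push_cast
      group
    rw [h1]
    exact g.2 _ (av_mem v)
  have hKP : ∀ (g : (fixer H (fixdPair V k k1 : Set V))), ∀ p ∈ (movePair V k k1), (g : H) • p ∈ (movePair V k k1) := by
    intro g p hp
    obtain ⟨q, hq, t, ht, e⟩ := exists_decomp hb hk hk1 hne1 hdis ((g : H) • p)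
    have := av_conj g p
    rw [e, av_add, av_P q hq, av_P p hp, av_T t ht, zero_add] at this
    rw [e, this, add_zero]; exact hq
  -- the shift
  obtain ⟨u, -, hu⟩ := mul_delta_surj hb hk hk1 hne1 hdis hd
  obtain ⟨g0, hg0, hle, hneg⟩ := exists_shift hb d
  have hdr : d ∈ move V (k * k1) := mem_move.2 ⟨u, hu⟩
  have hg0u : g0 • u = u + d := hg0 u ⟨_, hu⟩
  have hg0d : g0 • d = d := by rw [hneg ⟨_, hdr⟩, neg_self h2]
  have hg0K : g0 ∈ (fixer H (fixdPair V k k1 : Set V)) := fun t ht => hle _ hdr (fixd_inf_le_mul k k1 ht)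
  obtain ⟨a, o, ho, hao⟩ := Nat.exists_eq_two_pow_mul_odd (orderOf_pos g0).ne'
  have hsq : ∀ i : ℕ, g0 ^ (2 * i) • u = u ∧ g0 ^ (2 * i + 1) • u = u + d := by
    intro i
    induction i with
    | zero => simp [hg0u]
    | succ i ih =>
      have e1 : g0 ^ (2 * (i + 1)) • u = u := by
        rw [show 2 * (i + 1) = 2 * i + 1 + 1 from by ring, pow_succ', mul_smul, ih.2, smul_add,
          hg0u, hg0d, add_assoc, h2, add_zero]
      exact ⟨e1, by rw [pow_succ', mul_smul, e1, hg0u]⟩
  obtain ⟨i, rfl⟩ := ho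
  let j : (fixer H (fixdPair V k k1 : Set V)) := ⟨g0 ^ (2 * i + 1), pow_mem hg0K _⟩
  have hju : (j : H) • u = u + d := (hsq i).2
  have hjp : IsPGroup 2 (Subgroup.zpowers j) := by
    rw [IsPGroup.iff_card]
    have : orderOf j ∣ 2 ^ a := by
      rw [← Subgroup.orderOf_coe, orderOf_dvd_iff_pow_eq_one]
      show (g0 ^ (2 * i + 1)) ^ (2 ^ a) = 1
      rw [← pow_mul, mul_comm, ← hao, pow_orderOf_eq_one]
    obtain ⟨n, -, hn⟩ := (Nat.dvd_prime_pow Nat.prime_two).1 this
    exact ⟨n, by rw [Nat.card_zpowers, hn]⟩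
  obtain ⟨S', hS'⟩ := hjp.exists_le_sylow
  obtain ⟨g, hg⟩ := MulAction.exists_smul_eq (fixer H (fixdPair V k k1 : Set V)) S S'
  have hjS : j ∈ (g • S : Sylow 2 (fixer H (fixdPair V k k1 : Set V))) := hg.symm ▸ hS' (Subgroup.mem_zpowers j)
  have hjS' : j ∈ MulAut.conj g • (S : Subgroup (fixer H (fixdPair V k k1 : Set V))) := hjS
  obtain ⟨s, hs, hsj⟩ := Subgroup.mem_smul_pointwise_iff_exists _ _ _ |>.1 hjS'
  have hsj' : (g : H) * s * (g : H)⁻¹ = (j : H) := congrArg Subtype.val hsj
  rcases hS s hs with h1 | h1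
  · exfalso
    rw [h1, mul_one, mul_inv_cancel] at hsj'
    rw [← hsj', one_smul] at hju
    exact hd0 (left_eq_add.1 hju)
  · refine ⟨g, ?_, fun x hx => ?_⟩
    · have e : (g : H) * k * (g : H)⁻¹ = (j : H) :=
        (congrArg (fun z => (g : H) * z * (g : H)⁻¹) h1).symm.trans hsj'
      rw [e]; exact mem_move.2 ⟨u, hju⟩
    · rw [move_conj] at hx
      have := hKP g _ (AddSubgroup.mem_sup_left hx)
      rwa [smul_inv_smul] at this

/-- The configuration in characteristic two. -/
theorem plane_two (hb : IsBinary H V) (hi : IsIrred H V) (h2 : ∀ v : V, v + v = 0) {k₀ : H}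
    (hk₀ : IsMax V k₀) : ∃ m, IsPlane V H m := by
  classical
  let U : AddSubgroup V :=
    { carrier := {v | v = 0 ∨ ∃ g : H, v ∈ move V (g * k₀ * g⁻¹)}
      zero_mem' := .inl rfl
      add_mem' := by
        rintro a b (rfl | ⟨g, ha⟩) hb'
        · rwa [zero_add]
        rcases hb' with rfl | ⟨g', hb'⟩
        · rw [add_zero]; exact .inr ⟨g, ha⟩
        by_cases hne : g * k₀ * g⁻¹ = g' * k₀ * g'⁻¹
        · exact .inr ⟨g, add_mem ha (hne ▸ hb')⟩
        by_cases h0 : a + b = 0
        · exact .inl h0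
        have hnc := not_commute_conj hb hi h2 (hk₀.conj g) (hk₀.conj g') (h := g' * g⁻¹)
          (by group) hne
        obtain ⟨x, hx, -⟩ := line_two hb hi h2 (hk₀.conj g) (hk₀.conj g') hnc h0
          (add_mem (AddSubgroup.mem_sup_left ha) (AddSubgroup.mem_sup_right hb'))
        exact .inr ⟨x * g, by
          rwa [show x * g * k₀ * (x * g)⁻¹ = x * (g * k₀ * g⁻¹) * x⁻¹ by group]⟩
      neg_mem' := by
        rintro a (rfl | ⟨g, ha⟩)
        · exact .inl neg_zero
        · exact .inr ⟨g, neg_mem ha⟩ }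
  have hU : U = ⊤ := span_conj_move hi hk₀ fun g v hv => .inr ⟨g, hv⟩
  have hcov : ∀ v : V, v ≠ 0 → ∃ g : H, v ∈ move V (g * k₀ * g⁻¹) := fun v hv => by
    have : v ∈ U := hU ▸ AddSubgroup.mem_top v
    exact this.resolve_left hv
  have hall : ∀ k : H, IsMax V k → ∃ g : H, k = g * k₀ * g⁻¹ := by
    intro k hk
    obtain ⟨d, hd, hdm⟩ := hk.move_ne_bot
    obtain ⟨g, hg⟩ := hcov d hd
    exact ⟨g, hk.unique hb (hk₀.conj g) hd hdm hg⟩
  have hnc : ∀ k k' : H, IsMax V k → IsMax V k' → k ≠ k' → ¬ Commute k k' := by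
    intro k k' hk hk' hne
    obtain ⟨g, rfl⟩ := hall k hk
    obtain ⟨g', rfl⟩ := hall k' hk'
    exact not_commute_conj hb hi h2 hk hk' (h := g' * g⁻¹) (by group) hne
  have hcard : ∀ k : H, IsMax V k → Nat.card (move V k) = Nat.card (move V k₀) := by
    intro k hk
    by_cases hne : k = k₀
    · rw [hne]
    · exact hk.card_move_eq hb hk₀ (hnc k k₀ hk hk₀ hne)
  -- the fixed vectors of a point are the point
  have hCE : ∀ k : H, IsMax V k → fixd V k = move V k := by
    intro k hk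
    refine le_antisymm (fun c hc => ?_) (move_le_self hb h2 hk)
    by_cases hc0 : c = 0
    · rw [hc0]; exact zero_mem _
    obtain ⟨g, hg⟩ := hcov c hc0
    by_cases hne : k = g * k₀ * g⁻¹
    · rw [hne]; exact hg
    · exact absurd ((hk₀.conj g).commute_of_mem hb hc0 hg hc) (hnc _ _ hk (hk₀.conj g) hne)
  set m := Nat.card (move V k₀) with hm
  have hV : Nat.card V = m * m := by
    have := card_fixd_mul_card_move (V := V) k₀
    rw [hCE k₀ hk₀] at this
    exact this.symm
  obtain ⟨e, he0, he⟩ := hk₀.move_ne_bot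
  refine ⟨m, ⟨?_, hV, hcard, fun v hv => ?_, fun k k' hk hk' hne => ?_, ⟨e, he0, k₀, hk₀, ?_, ?_⟩⟩⟩
  · rw [hm]
    exact Finite.one_lt_card_iff_nontrivial.2 ⟨⟨⟨e, he⟩, 0, fun h => he0 (congrArg Subtype.val h)⟩⟩
  · obtain ⟨g, hg⟩ := hcov v hv
    exact ⟨_, hk₀.conj g, hg⟩
  · rw [eq_bot_iff]
    intro v hv
    have h1 : v ∈ move V k := hCE k hk ▸ hv.1
    have h3 : v ∈ move V k' := hCE k' hk' ▸ hv.2
    exact hk.disjoint hb hk' hne h1 h3
  · exact move_le_self hb h2 hk₀ he
  · intro h hh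
    by_cases h1 : h = 1
    · exact .inl h1
    right
    have hle : fixd V k₀ ≤ fixd V h := by
      rw [hCE k₀ hk₀]
      exact (hk₀.move_le_fixd hb (fun _ b _ _ => h2 b) he0 he hh).2
    obtain ⟨hm', hC⟩ := hk₀.of_le h1 hle
    exact fixd_inj hb hi h2 hk₀ hm' hC

end CfsgLib.BinAffine
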